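import Groth.Agent.ResProp.EF.K363.LevN
import Groth.Agent.ResProp.EF.K959.Desc

/-!
# From the cocycle over `k ⊗ A⟨1⟩` to a descent datum over `A⟨1⟩`

`lidA n : k ⊗ A⟨n⟩ → A⟨n⟩`, `inclB B n : A⟨n⟩ → B ⊗ A⟨n⟩`; `sgA ψ` : `ψ` over `A⟨1⟩`; `descA` : helper959's `Desc A M`;
`psiB_eq` : `ψ_B` is the base change of `sgA ψ` to `B ⊗ A⟨1⟩`.
-/

set_option autoImplicit false
set_option linter.dupNamespace false

namespace Groth.Agent.ResProp.EF.K363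

open CategoryTheory Opposite TensorProduct Groth.Agent.ResProp.EF.K980 Groth.Agent.ResProp.EF.K959

open K784.BC K784.PM K741.RP EF56 Grp Arch

universe u

theorem pullE_factor {R : Type u} [CommRing R] {R₁ R₂ R₃ : Type u} [CommRing R₁] [CommRing R₂] [CommRing R₃]
    {M : Type u} [AddCommGroup M] [Module R M] {f : R₁ →+* R₂} {g : R₂ →+* R₃} {h : R₁ →+* R₃} (e : g.comp f = h)
    {x₁ y₁ : R →+* R₁} {x₂ y₂ : R →+* R₂} {x₃ y₃ : R →+* R₃} (hx : f.comp x₁ = x₂) (hy : f.comp y₁ = y₂)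
    (hx2 : g.comp x₂ = x₃) (hy2 : g.comp y₂ = y₃) (hx3 : h.comp x₁ = x₃) (hy3 : h.comp y₁ = y₃)
    (ψ : BC x₁ M ≃ₗ[R₁] BC y₁ M) : BC.pullE g hx2 hy2 (BC.pullE f hx hy ψ) = BC.pullE h hx3 hy3 ψ := by
  subst e
  exact BC.pullE_pullE hx hy hx2 hy2 hx3 hy3 ψ

variable {k : Type u} [CommRing k] {A : NFᵒᵖ ⥤ CommRingCat.{u}} [GRF k A]

variable (k A) in
/-- `k ⊗ A⟨n⟩ → A⟨n⟩` -/
noncomputable def lidA (n : ℕ) : k ⊗[k] A.obj (op ⟨n⟩) →+* A.obj (op ⟨n⟩) :=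
  (Algebra.TensorProduct.lid k (A.obj (op ⟨n⟩))).toAlgHom.toRingHom

@[simp] theorem lidA_tmul (n : ℕ) (r : k) (a : A.obj (op ⟨n⟩)) : lidA k A n (r ⊗ₜ a) = r • a := rfl

theorem lidA_x (n : ℕ) (i : Fin (n + 1)) : (lidA k A n).comp (xp k A k n i) = vx A ⟨n⟩ i := by
  ext r
  show lidA k A n (1 ⊗ₜ rg A (pt ⟨n⟩ i) r) = _
  rw [lidA_tmul, one_smul]

theorem lidA_lv {m n : ℕ} (a : Fin (m + 1) → Fin (n + 1)) :
    (lidA k A n).comp (lv k A (AlgHom.id k k) a) = (rg A (vmap a)).comp (lidA k A m) := by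
  have h1 : (Algebra.TensorProduct.lid k (A.obj (op ⟨n⟩))).toAlgHom.comp
      (Algebra.TensorProduct.map (AlgHom.id k k) (rgk k A (vmap a))) =
      (rgk k A (vmap a)).comp (Algebra.TensorProduct.lid k (A.obj (op ⟨m⟩))).toAlgHom := by
    ext z
    show (1 : k) • rg A (vmap a) z = rg A (vmap a) ((1 : k) • z)
    rw [one_smul, one_smul]
  exact congrArg AlgHom.toRingHom h1

variable (k A) in
/-- `A⟨n⟩ → B ⊗ A⟨n⟩` -/
noncomputable def inclB (B : Type u) [CommRing B] [Algebra k B] (n : ℕ) : A.obj (op ⟨n⟩) →+* B ⊗[k] A.obj (op ⟨n⟩) :=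
  (Algebra.TensorProduct.includeRight (R := k) (A := B) (B := A.obj (op ⟨n⟩))).toRingHom

@[simp] theorem inclB_apply (B : Type u) [CommRing B] [Algebra k B] (n : ℕ) (a : A.obj (op ⟨n⟩)) :
    inclB k A B n a = 1 ⊗ₜ a := rfl

theorem inclB_x (B : Type u) [CommRing B] [Algebra k B] (n : ℕ) (i : Fin (n + 1)) :
    (inclB k A B n).comp (vx A ⟨n⟩ i) = xp k A B n i := rfl

theorem inclB_lid (B : Type u) [CommRing B] [Algebra k B] (n : ℕ) :
    (inclB k A B n).comp (lidA k A n) = lv k A (Algebra.ofId k B) (fun t : Fin (n + 1) => t) := by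
  have h1 : (Algebra.TensorProduct.includeRight (R := k) (A := B) (B := A.obj (op ⟨n⟩))).comp
      (Algebra.TensorProduct.lid k (A.obj (op ⟨n⟩))).toAlgHom =
      Algebra.TensorProduct.map (Algebra.ofId k B) (rgk k A (vmap (fun t : Fin (n + 1) => t))) := by
    ext z
    show (1 : B) ⊗ₜ[k] ((1 : k) • z) = Algebra.ofId k B 1 ⊗ₜ[k] rg A (vmap (fun t : Fin (n + 1) => t)) z
    rw [one_smul, map_one]
    congr 1
    have h2 : vmap (fun t : Fin (n + 1) => t) = 𝟙 (⟨n⟩ : NF) := rfl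
    rw [h2, rg_id]
    rfl
  exact congrArg AlgHom.toRingHom h1

theorem inclB_rg (B : Type u) [CommRing B] [Algebra k B] {m n : ℕ} (a : Fin (m + 1) → Fin (n + 1)) :
    (lv k A (AlgHom.id k B) a).comp (inclB k A B m) = (inclB k A B n).comp (rg A (vmap a)) := by
  ext z
  show Algebra.TensorProduct.map (AlgHom.id k B) (rgk k A (vmap a)) (1 ⊗ₜ z) = 1 ⊗ₜ rg A (vmap a) z
  rw [Algebra.TensorProduct.map_tmul, map_one]
  rfl

section Desc

variable {M : Type u} [AddCommGroup M] [Module (A.obj (op ⟨0⟩)) M] (hA : GR A)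
  (ψ : BC ((lvB k hA k).x 1 0) M ≃ₗ[(lvB k hA k).Rn 1] BC ((lvB k hA k).x 1 1) M)

/-- `ψ` over `A⟨1⟩` -/
noncomputable def sgA : BC (vx A ⟨1⟩ 0) M ≃ₗ[A.obj (op ⟨1⟩)] BC (vx A ⟨1⟩ 1) M :=
  BC.pullE (lidA k A 1) (lidA_x 1 0) (lidA_x 1 1) ψ

theorem tpE_sgA (i j : Fin 3) : tpE (sgA hA ψ) ⟨2⟩ i j =
    BC.pullE (lidA k A 2) (lidA_x 2 i) (lidA_x 2 j)
      (BC.pullE ((lvB k hA k).r ![i, j]) (show _ = (lvB k hA k).x 2 i from (lvB k hA k).r_x ![i, j] 0)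
        (show _ = (lvB k hA k).x 2 j from (lvB k hA k).r_x ![i, j] 1) ψ) := by
  have h : (rg A (edge ⟨2⟩ i j)).comp (lidA k A 1) = (lidA k A 2).comp (lv k A (AlgHom.id k k) ![i, j]) :=
    (lidA_lv (k := k) (A := A) (m := 1) (n := 2) ![i, j]).symm
  exact pullE_sq h _ _ _ _ _ _ _ _ ψ

/-- **the descent datum** -/
noncomputable def descA (hc : IsCocy (lvB k hA k) ψ) : Desc A M where
  σ := sgA hA ψ
  coc := by
    let f : (lvB k hA k).Rn 2 →+* A.obj (op ⟨2⟩) := lidA k A 2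
    have e : ∀ i : Fin 3, f.comp ((lvB k hA k).x 2 i) = vx A ⟨2⟩ i := fun i => lidA_x 2 i
    have h1 := pullE_injective_of (f := f) (e 0) (e 2) hc
    rw [BC.pullE_trans (e 0) (e 1) (e 2)] at h1
    rw [tpE_sgA, tpE_sgA, tpE_sgA]
    exact h1

theorem descA_σ (hc : IsCocy (lvB k hA k) ψ) : (descA hA ψ hc).σ = sgA hA ψ := rfl

/-- `ψ_B` is the base change of `sgA ψ` -/
theorem psiB_eq (B : Type u) [CommRing B] [Algebra k B] [Module.Flat k B] :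
    psiB hA M ψ B = BC.pullE (inclB k A B 1) (inclB_x B 1 0) (inclB_x B 1 1) (sgA hA ψ) := by
  let f : (lvB k hA k).Rn 1 →+* A.obj (op ⟨1⟩) := lidA k A 1
  let g : A.obj (op ⟨1⟩) →+* (lvB k hA B).Rn 1 := inclB k A B 1
  have e : ∀ i : Fin 2, f.comp ((lvB k hA k).x 1 i) = vx A ⟨1⟩ i := fun i => lidA_x 1 i
  have e' : ∀ i : Fin 2, g.comp (vx A ⟨1⟩ i) = (lvB k hA B).x 1 i := fun i => inclB_x B 1 i
  have h : g.comp f = (homB hA (Algebra.ofId k B)).f 1 := inclB_lid B 1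
  exact (pullE_factor h (e 0) (e 1) (e' 0) (e' 1) ((homB hA (Algebra.ofId k B)).f_x 1 0)
    ((homB hA (Algebra.ofId k B)).f_x 1 1) ψ).symm

end Desc

end Groth.Agent.ResProp.EF.K363
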