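import Groth.Agent.ResProp.EF.K363.Lev

/-!
# Arrows over the levels
-/

set_option autoImplicit false
set_option linter.dupNamespace false

namespace Groth.Agent.ResProp.EF.K363

open Groth.Agent.ResProp.EF.K980

universe u v w

variable {R : Type u} [CommRing R] {P P' : PGpd.{u} R} {Lv : LvRing.{u} R} {Hg : Type v} [Group Hg]

/-- arrows along a functor of groupoids of points -/
def LvArr.mapFun (W : LvArr P Lv Hg) (Φ : PGpd.Fun P P') : LvArr P' Lv Hg where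
  arr n i j h := Φ.app (W.arr n i j h)
  arr_one n i := by rw [W.arr_one, Φ.app_id]
  arr_comp n i j l h h' := by rw [← Φ.app_comp, W.arr_comp]
  arr_pull a i j h := by rw [← Φ.app_pull, W.arr_pull]

/-- change of the group -/
def LvArr.comapHom {Hg' : Type w} [Group Hg'] (W : LvArr P Lv Hg) (f : Hg' →* Hg) : LvArr P Lv Hg' where
  arr n i j h := W.arr n i j (f h)
  arr_one n i := by rw [map_one, W.arr_one]
  arr_comp n i j l h h' := by rw [W.arr_comp, map_mul]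
  arr_pull a i j h := W.arr_pull a i j (f h)

/-- morphisms of levels -/
structure LvRing.Hom (Lv Lv' : LvRing.{u} R) where
  f : ∀ n, Lv.Rn n →+* Lv'.Rn n
  f_x : ∀ n i, (f n).comp (Lv.x n i) = Lv'.x n i
  f_r : ∀ {m n : ℕ} (a : Fin (m + 1) → Fin (n + 1)), (f n).comp (Lv.r a) = (Lv'.r a).comp (f m)

/-- a lift over a level can be pulled back to another system of levels -/
theorem pull_arr {Lv' : LvRing.{u} R} {Hg' : Type w} [Group Hg'] (φ : LvRing.Hom Lv Lv') (W : LvArr P Lv Hg)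
    (W' : LvArr P Lv' Hg') (θ : Hg → Hg')
    (hW : ∀ n i j h, P.pull (φ.f n) (φ.f_x n i) (φ.f_x n j) (W.arr n i j h) = W'.arr n i j (θ h))
    (X : AlgPkg P) {n : ℕ} {i j : Fin (n + 1)} {h : Hg} {ψ : BC (Lv.x n i) X.K ≃ₗ[Lv.Rn n] BC (Lv.x n j) X.K}
    (hψ : ψ ∈ X.L (W.arr n i j h)) :
    BC.pullE (φ.f n) (φ.f_x n i) (φ.f_x n j) ψ ∈ X.L (W'.arr n i j (θ h)) := by
  have := X.L_pull (φ.f n) (φ.f_x n i) (φ.f_x n j) _ (Lv.flat n i) (Lv.flat n j) (Lv'.flat n i) (Lv'.flat n j) ψ hψ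
  rwa [hW] at this

theorem pullE_congr {R' R'' : Type u} [CommRing R'] [CommRing R''] {M N : Type u} [AddCommGroup M] [Module R M]
    [AddCommGroup N] [Module R N] {x y : R →+* R'} {x' y' : R →+* R''} {f g : R' →+* R''} (h : f = g)
    (hx : f.comp x = x') (hy : f.comp y = y') (hx' : g.comp x = x') (hy' : g.comp y = y')
    (ψ : BC x M ≃ₗ[R'] BC y N) : BC.pullE f hx hy ψ = BC.pullE g hx' hy' ψ := by
  subst h
  rfl

theorem pullE_sq {R₁ R₂ R₃ R₄ : Type u} [CommRing R₁] [CommRing R₂] [CommRing R₃] [CommRing R₄] {M : Type u}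
    [AddCommGroup M] [Module R M] {f : R₁ →+* R₂} {g : R₂ →+* R₄} {f' : R₁ →+* R₃} {g' : R₃ →+* R₄}
    (h : g.comp f = g'.comp f') {x₁ y₁ : R →+* R₁} {x₂ y₂ : R →+* R₂} {x₃ y₃ : R →+* R₃} {x₄ y₄ : R →+* R₄}
    (hx : f.comp x₁ = x₂) (hy : f.comp y₁ = y₂) (hx2 : g.comp x₂ = x₄) (hy2 : g.comp y₂ = y₄)
    (hx' : f'.comp x₁ = x₃) (hy' : f'.comp y₁ = y₃) (hx2' : g'.comp x₃ = x₄) (hy2' : g'.comp y₃ = y₄)
    (ψ : BC x₁ M ≃ₗ[R₁] BC y₁ M) :
    BC.pullE g hx2 hy2 (BC.pullE f hx hy ψ) = BC.pullE g' hx2' hy2' (BC.pullE f' hx' hy' ψ) := by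
  have e1 : (g.comp f).comp x₁ = x₄ := by rw [RingHom.comp_assoc, hx, hx2]
  have e2 : (g.comp f).comp y₁ = y₄ := by rw [RingHom.comp_assoc, hy, hy2]
  have e3 : (g'.comp f').comp x₁ = x₄ := by rw [RingHom.comp_assoc, hx', hx2']
  have e4 : (g'.comp f').comp y₁ = y₄ := by rw [RingHom.comp_assoc, hy', hy2']
  rw [BC.pullE_pullE hx hy hx2 hy2 e1 e2, BC.pullE_pullE hx' hy' hx2' hy2' e3 e4]
  exact pullE_congr h _ _ _ _ ψ

theorem pullE_injective_of {R' R'' : Type u} [CommRing R'] [CommRing R''] {M : Type u} [AddCommGroup M] [Module R M]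
    {x y : R →+* R'} {x' y' : R →+* R''} {f : R' →+* R''} (hx : f.comp x = x') (hy : f.comp y = y')
    {ψ χ : BC x M ≃ₗ[R'] BC y M} (h : ψ = χ) : BC.pullE f hx hy ψ = BC.pullE f hx hy χ := by
  rw [h]

/-- the cocycle identity is preserved by a morphism of levels -/
theorem IsCocy.pull {Lv' : LvRing.{u} R} (φ : LvRing.Hom Lv Lv') {M : Type u} [AddCommGroup M] [Module R M]
    {ψ : BC (Lv.x 1 0) M ≃ₗ[Lv.Rn 1] BC (Lv.x 1 1) M} (h : IsCocy Lv ψ) :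
    IsCocy Lv' (BC.pullE (φ.f 1) (φ.f_x 1 0) (φ.f_x 1 1) ψ) := by
  unfold IsCocy at h ⊢
  have key : ∀ (a : Fin 2 → Fin 3),
      BC.pullE (Lv'.r a) (Lv'.r_x a 0) (Lv'.r_x a 1) (BC.pullE (φ.f 1) (φ.f_x 1 0) (φ.f_x 1 1) ψ) =
        BC.pullE (φ.f 2) (φ.f_x 2 (a 0)) (φ.f_x 2 (a 1)) (BC.pullE (Lv.r a) (Lv.r_x a 0) (Lv.r_x a 1) ψ) :=
    fun a => pullE_sq (φ.f_r (m := 1) (n := 2) a).symm _ _ _ _ _ _ _ _ ψ
  have k01 := key ![0, 1]
  have k12 := key ![1, 2]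
  have k02 := key ![0, 2]
  have h1 := pullE_injective_of (φ.f_x 2 0) (φ.f_x 2 2) h
  rw [BC.pullE_trans (φ.f_x 2 0) (φ.f_x 2 1) (φ.f_x 2 2)] at h1
  exact (congrArg₂ LinearEquiv.trans k01 k12).trans (h1.trans k02.symm)

end Groth.Agent.ResProp.EF.K363
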