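import Groth.Agent.ResProp.EF.K980.Nodes
import Groth.Agent.ResProp.EF.K363.Arr

/-!
# Levels and arrows of a `Lev`, and the gluing over all flat algebras

`lvB k hA B` : the levels `B ⊗[k] A⟨n⟩` for a flat `k`-algebra `B`; `arrB` : the arrows of a `Lev` over them;
`homB f` : the morphism of levels of `f : B → C`.
`glue_all` : one cocycle `ψ` over `B = k`, its base changes `ψ_B`, and for every `h ∈ H(B)` a lift commuting with `ψ_B`.
-/

set_option autoImplicit false
set_option linter.dupNamespace false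

namespace Groth.Agent.ResProp.EF.K363

open CategoryTheory Opposite TensorProduct Groth.Agent.ResProp.EF.K980 Groth.Agent.ResProp.EF.K734

open K784.BC K784.PM K741.RP EF56 Grp Arch

universe u

section LvB

variable {k : Type u} [CommRing k] {A : NFᵒᵖ ⥤ CommRingCat.{u}} [GRF k A]

theorem flat_inclR (B C : Type u) [CommRing B] [Algebra k B] [Module.Flat k B] [CommRing C] [Algebra k C] :
    (Algebra.TensorProduct.includeRight (R := k) (A := B) (B := C)).toRingHom.Flat := by
  have h1 : (algebraMap k B).Flat := (RingHom.flat_algebraMap_iff).mpr inferInstance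
  have : Module.Flat C (C ⊗[k] B) := inferInstance
  have h2 : (algebraMap C (C ⊗[k] B)).Flat := RingHom.flat_algebraMap_iff.mpr this
  have h3 : (Algebra.TensorProduct.includeRight (R := k) (A := B) (B := C)).toRingHom =
      (Algebra.TensorProduct.comm k C B).toAlgHom.toRingHom.comp (algebraMap C (C ⊗[k] B)) := by
    ext c
    simp
  rw [h3]
  exact RingHom.Flat.comp h2 (RingHom.Flat.of_bijective (Algebra.TensorProduct.comm k C B).bijective)

theorem flat_xp (hA : GR A) (B : Type u) [CommRing B] [Algebra k B] [Module.Flat k B] (n : ℕ) (i : Fin (n + 1)) :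
    (xp k A B n i).Flat :=
  RingHom.Flat.comp (flat_pt hA n i) (flat_inclR B (A.obj (op ⟨n⟩)))

theorem lv_lv {B C D : Type u} [CommRing B] [Algebra k B] [CommRing C] [Algebra k C] [CommRing D] [Algebra k D]
    (f : B →ₐ[k] C) (g : C →ₐ[k] D) {l m n : ℕ} (b : Fin (m + 1) → Fin (n + 1)) (a : Fin (l + 1) → Fin (m + 1)) :
    (lv k A g b).comp (lv k A f a) = lv k A (g.comp f) (fun t => b (a t)) := by
  have h1 : (Algebra.TensorProduct.map g (rgk k A (vmap b))).comp (Algebra.TensorProduct.map f (rgk k A (vmap a))) =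
      Algebra.TensorProduct.map (g.comp f) (rgk k A (vmap (fun t => b (a t)))) := by
    rw [← Algebra.TensorProduct.map_comp]
    congr 1
    ext r
    show rg A (vmap b) (rg A (vmap a) r) = _
    rw [← RingHom.comp_apply, ← rg_comp]
    rfl
  exact congrArg AlgHom.toRingHom h1

variable (k) in
/-- the levels `B ⊗ A⟨n⟩` -/
noncomputable def lvB (hA : GR A) (B : Type u) [CommRing B] [Algebra k B] [Module.Flat k B] :
    LvRing.{u} (A.obj (op ⟨0⟩)) where
  Rn n := B ⊗[k] A.obj (op ⟨n⟩)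
  x n i := xp k A B n i
  flat n i := flat_xp hA B n i
  r a := lv k A (AlgHom.id k B) a
  r_x a i := lv_xp k A (AlgHom.id k B) a i
  r_r b a := lv_lv (AlgHom.id k B) (AlgHom.id k B) b a

/-- the morphism of levels of `f : B → C` -/
noncomputable def homB (hA : GR A) {B C : Type u} [CommRing B] [Algebra k B] [Module.Flat k B] [CommRing C]
    [Algebra k C] [Module.Flat k C] (f : B →ₐ[k] C) : LvRing.Hom (lvB k hA B) (lvB k hA C) where
  f n := lv k A f (fun t : Fin (n + 1) => t)
  f_x n i := lv_xp k A f (fun t : Fin (n + 1) => t) i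
  f_r a := by
    show (lv k A f _).comp (lv k A (AlgHom.id k B) a) = (lv k A (AlgHom.id k C) a).comp (lv k A f _)
    rw [lv_lv, lv_lv, AlgHom.comp_id, AlgHom.id_comp]

variable {H : K104.GFun k} {P : PGpd.{u} (A.obj (op ⟨0⟩))}

/-- the arrows of a `Lev` over the levels `B ⊗ A⟨n⟩` -/
noncomputable def arrB (L : Lev k A H P) (hA : GR A) (B : Type u) [CommRing B] [Algebra k B] [Module.Flat k B] :
    LvArr P (lvB k hA B) (H.pt B) where
  arr n i j h := L.ar B n i j h
  arr_one n i := L.ar_one B n i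
  arr_comp n i j l h h' := L.ar_comp B n i j l h h'
  arr_pull a i j h := by
    have := L.ar_pull (AlgHom.id k B) a i j h
    rwa [H.map_id] at this

theorem pull_arrB (L : Lev k A H P) (hA : GR A) {B C : Type u} [CommRing B] [Algebra k B] [Module.Flat k B]
    [CommRing C] [Algebra k C] [Module.Flat k C] (f : B →ₐ[k] C) (n : ℕ) (i j : Fin (n + 1)) (h : H.pt B) :
    P.pull ((homB hA f).f n) ((homB hA f).f_x n i) ((homB hA f).f_x n j) ((arrB L hA B).arr n i j h) =
      (arrB L hA C).arr n i j (H.map f h) :=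
  L.ar_pull f (fun t : Fin (n + 1) => t) i j h

/-- the base change of `ψ` to `B` -/
noncomputable def psiB (hA : GR A) (M : Type u) [AddCommGroup M] [Module (A.obj (op ⟨0⟩)) M]
    (ψ : BC ((lvB k hA k).x 1 0) M ≃ₗ[(lvB k hA k).Rn 1] BC ((lvB k hA k).x 1 1) M)
    (B : Type u) [CommRing B] [Algebra k B] [Module.Flat k B] :
    BC ((lvB k hA B).x 1 0) M ≃ₗ[(lvB k hA B).Rn 1] BC ((lvB k hA B).x 1 1) M :=
  BC.pullE ((homB hA (Algebra.ofId k B)).f 1) ((homB hA (Algebra.ofId k B)).f_x 1 0)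
    ((homB hA (Algebra.ofId k B)).f_x 1 1) ψ

theorem psiB_pull (hA : GR A) {M : Type u} [AddCommGroup M] [Module (A.obj (op ⟨0⟩)) M]
    (ψ : BC ((lvB k hA k).x 1 0) M ≃ₗ[(lvB k hA k).Rn 1] BC ((lvB k hA k).x 1 1) M)
    {B C : Type u} [CommRing B] [Algebra k B] [Module.Flat k B]
    [CommRing C] [Algebra k C] [Module.Flat k C] (f : B →ₐ[k] C) :
    BC.pullE ((homB hA f).f 1) ((homB hA f).f_x 1 0) ((homB hA f).f_x 1 1) (psiB hA M ψ B) = psiB hA M ψ C := by
  have h0 : ((homB hA f).f 1).comp ((homB hA (Algebra.ofId k B)).f 1) = (homB hA (Algebra.ofId k C)).f 1 := by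
    show (lv k A f _).comp (lv k A (Algebra.ofId k B) _) = lv k A (Algebra.ofId k C) _
    rw [lv_lv]
    congr 1
    exact Subsingleton.elim _ _
  unfold psiB
  rw [BC.pullE_pullE _ _ _ _ (by rw [h0]; exact (homB hA (Algebra.ofId k C)).f_x 1 0)
    (by rw [h0]; exact (homB hA (Algebra.ofId k C)).f_x 1 1)]
  exact pullE_congr h0 _ _ _ _ ψ

/-- **The cocycle and the equivariant lifts over all flat algebras.** -/
theorem glue_all (X : AlgPkg P) (L : Lev k A H P) (hA : GR A)
    (h1 : ∀ (B : Type u) [CommRing B] [Algebra k B] [Module.Flat k B] (q : ℕ), 1 ≤ q → q ≤ X.k →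
      (ts X (arrB L hA B)).H1 q)
    (h2 : ∀ (q : ℕ), 1 ≤ q → q ≤ X.k → (ts X (arrB L hA k)).H2 q) :
    ∃ ψ : BC ((lvB k hA k).x 1 0) X.K ≃ₗ[(lvB k hA k).Rn 1] BC ((lvB k hA k).x 1 1) X.K,
      IsCocy (lvB k hA k) ψ ∧
      ∀ (B : Type u) [CommRing B] [Algebra k B] [Module.Flat k B],
        psiB hA X.K ψ B ∈ X.L (L.ar B 1 0 1 1) ∧ IsCocy (lvB k hA B) (psiB hA X.K ψ B) ∧
        ∀ h : H.pt B, ∃ g ∈ X.L (L.ar B 0 0 0 h), Commutes (lvB k hA B) (psiB hA X.K ψ B) g := by
  obtain ⟨ψ, hψ, hc⟩ := glueP X (arrB L hA k) h2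
  refine ⟨ψ, hc, ?_⟩
  intro B _ _ _
  have hB : psiB hA X.K ψ B ∈ X.L ((arrB L hA B).arr 1 0 1 1) := by
    have := pull_arr (homB hA (Algebra.ofId k B)) (arrB L hA k) (arrB L hA B) (H.map (Algebra.ofId k B))
      (fun n i j h => pull_arrB L hA (Algebra.ofId k B) n i j h) X hψ
    rwa [map_one] at this
  have hcB : IsCocy (lvB k hA B) (psiB hA X.K ψ B) := hc.pull (homB hA (Algebra.ofId k B))
  exact ⟨hB, hcB, fun h => liftP X (arrB L hA B) (h1 B) hB hcB h⟩

end LvB

end Groth.Agent.ResProp.EF.K363
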