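import Groth.Agent.ResProp.EF.K363.Glue
import Groth.Agent.ResProp.EF.K734.NFil

/-!
# From filtered operators and good isomorphisms to a filtered transport system

`OpSys Hg` : at level `n` a ring `Rn n`, for every vertex a module `K n i`, base change `bc` of linear maps (strictly
functorial), the nilpotent filtration `N n i` of `End (K n i)` (`F r = DD^(r+1)`), and the sets `Good n i j h` of isomorphisms
`K n i ≃ K n j` over `h`.  `OpSys.toTS` : the arrows of degree `h` are `s (1 + L)`, `s` good, `L ∈ DD^(1)`.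
-/

set_option autoImplicit false

namespace Groth.Agent.ResProp.EF.K363

open Groth.Agent.ResProp.EF.K734

universe u v

/-- operators and good isomorphisms on the levels of a nerve -/
structure OpSys (Hg : Type v) [Group Hg] where
  /-- the ring of level `n` -/
  Rn : ℕ → Type u
  [crR : ∀ n, CommRing (Rn n)]
  /-- the module at the vertex `i` of level `n` -/
  K : ∀ n : ℕ, Fin (n + 1) → Type u
  [acK : ∀ n i, AddCommGroup (K n i)]
  [mK : ∀ n i, Module (Rn n) (K n i)]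
  /-- base change of linear maps -/
  bc : ∀ {m n : ℕ} (a : Fin (m + 1) → Fin (n + 1)) {i j : Fin (m + 1)},
    (K m i →ₗ[Rn m] K m j) → (K n (a i) →ₗ[Rn n] K n (a j))
  bc_add : ∀ {m n : ℕ} (a : Fin (m + 1) → Fin (n + 1)) {i j : Fin (m + 1)} (L M : K m i →ₗ[Rn m] K m j),
    bc a (L + M) = bc a L + bc a M
  bc_comp : ∀ {m n : ℕ} (a : Fin (m + 1) → Fin (n + 1)) {i j l : Fin (m + 1)} (M : K m j →ₗ[Rn m] K m l)
    (L : K m i →ₗ[Rn m] K m j), bc a (M ∘ₗ L) = bc a M ∘ₗ bc a L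
  bc_id : ∀ {m n : ℕ} (a : Fin (m + 1) → Fin (n + 1)) {i : Fin (m + 1)},
    bc a (LinearMap.id : K m i →ₗ[Rn m] K m i) = LinearMap.id
  bc_bc : ∀ {l m n : ℕ} (b : Fin (m + 1) → Fin (n + 1)) (a : Fin (l + 1) → Fin (m + 1)) {i j : Fin (l + 1)}
    (L : K l i →ₗ[Rn l] K l j), bc b (bc a L) = bc (fun r => b (a r)) L
  /-- the filtration of the operators, `F r = DD^(r+1)` -/
  N : ∀ (n : ℕ) (i : Fin (n + 1)), NFil (Module.End (Rn n) (K n i))
  bc_N : ∀ {m n : ℕ} (a : Fin (m + 1) → Fin (n + 1)) {i : Fin (m + 1)} {r : ℕ} {L : Module.End (Rn m) (K m i)},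
    L ∈ (N m i).F r → (show Module.End (Rn n) (K n (a i)) from bc a L) ∈ (N n (a i)).F r
  /-- the good isomorphisms over `h` -/
  Good : ∀ (n : ℕ) (i j : Fin (n + 1)), Hg → Set (K n i ≃ₗ[Rn n] K n j)
  good_ne : ∀ n i j h, (Good n i j h).Nonempty
  good_trans : ∀ {n : ℕ} {i j l : Fin (n + 1)} {h h' : Hg} {s : K n i ≃ₗ[Rn n] K n j} {t : K n j ≃ₗ[Rn n] K n l},
    s ∈ Good n i j h → t ∈ Good n j l h' → s.trans t ∈ Good n i l (h' * h)
  good_symm : ∀ {n : ℕ} {i j : Fin (n + 1)} {h : Hg} {s : K n i ≃ₗ[Rn n] K n j},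
    s ∈ Good n i j h → s.symm ∈ Good n j i h⁻¹
  good_bc : ∀ {m n : ℕ} (a : Fin (m + 1) → Fin (n + 1)) {i j : Fin (m + 1)} {h : Hg} {s : K m i ≃ₗ[Rn m] K m j},
    s ∈ Good m i j h → ∃ t ∈ Good n (a i) (a j) h, (t : K n (a i) →ₗ[Rn n] K n (a j)) = bc a s
  good_conj : ∀ {n : ℕ} {i j : Fin (n + 1)} {h : Hg} {s : K n i ≃ₗ[Rn n] K n j}, s ∈ Good n i j h →
    ∀ {r : ℕ} {L : Module.End (Rn n) (K n i)}, L ∈ (N n i).F r → s.conj L ∈ (N n j).F r
  good_loop : ∀ {n : ℕ} {i : Fin (n + 1)} {s : K n i ≃ₗ[Rn n] K n i}, s ∈ Good n i i 1 →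
    (s : Module.End (Rn n) (K n i)) - 1 ∈ (N n i).F 0

attribute [instance] OpSys.crR OpSys.acK OpSys.mK

section Gen

variable {R : Type u} [CommRing R] {K K' K'' : Type u} [AddCommGroup K] [Module R K] [AddCommGroup K'] [Module R K']
  [AddCommGroup K''] [Module R K'']

/-- the unit of an automorphism -/
def un (e : K ≃ₗ[R] K) : (Module.End R K)ˣ where
  val := e
  inv := e.symm
  val_inv := by ext v; simp
  inv_val := by ext v; simp

@[simp] theorem un_val (e : K ≃ₗ[R] K) : ((un e : (Module.End R K)ˣ) : Module.End R K) = e := rfl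

@[simp] theorem un_inv (e : K ≃ₗ[R] K) : (((un e)⁻¹ : (Module.End R K)ˣ) : Module.End R K) = e.symm := rfl

/-- the automorphism of a unit -/
def ofUn (u : (Module.End R K)ˣ) : K ≃ₗ[R] K :=
  LinearEquiv.ofLinearMap (u : Module.End R K) ((u⁻¹ : (Module.End R K)ˣ) : Module.End R K) (Units.mul_inv u) (Units.inv_mul u)

theorem coe_ofUn (u : (Module.End R K)ˣ) : ((ofUn u : K ≃ₗ[R] K) : Module.End R K) = u := rfl

theorem un_trans (e f : K ≃ₗ[R] K) : un (e.trans f) = un f * un e := by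
  ext v
  rfl

theorem un_symm (e : K ≃ₗ[R] K) : un e.symm = (un e)⁻¹ := by
  ext v
  rfl

theorem conj_un (e : K ≃ₗ[R] K) (L : Module.End R K) :
    e.conj L = (un e : Module.End R K) * L * (((un e)⁻¹ : (Module.End R K)ˣ) : Module.End R K) := by
  ext v
  rfl

theorem coe_trans_conj (s : K ≃ₗ[R] K') (u : K ≃ₗ[R] K) :
    (((s.symm.trans u).trans s : K' ≃ₗ[R] K') : Module.End R K') - 1 = s.conj ((u : Module.End R K) - 1) := by
  ext v
  simp [LinearEquiv.conj_apply]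

theorem conj_symm_conj (s : K ≃ₗ[R] K') (L : Module.End R K) : s.symm.conj (s.conj L) = L := by
  ext v
  simp [LinearEquiv.conj_apply]

end Gen

namespace OpSys

variable {Hg : Type v} [Group Hg] (O : OpSys.{u, v} Hg)

/-- `ψ` is a lift of `h`: `ψ = s (1 + L)` -/
def IsLift {n : ℕ} {i j : Fin (n + 1)} (h : Hg) (ψ : O.K n i ≃ₗ[O.Rn n] O.K n j) : Prop :=
  ∃ s ∈ O.Good n i j h, ((ψ.trans s.symm : O.K n i ≃ₗ[O.Rn n] O.K n i) : Module.End (O.Rn n) (O.K n i)) - 1 ∈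
    (O.N n i).F 0

variable {O}

theorem IsLift.exists_un {n : ℕ} {i j : Fin (n + 1)} {h : Hg} {ψ : O.K n i ≃ₗ[O.Rn n] O.K n j} (hψ : O.IsLift h ψ) :
    ∃ s ∈ O.Good n i j h, ∃ u : O.K n i ≃ₗ[O.Rn n] O.K n i, un u ∈ (O.N n i).V 0 ∧ ψ = u.trans s := by
  obtain ⟨s, hs, hu⟩ := hψ
  exact ⟨s, hs, ψ.trans s.symm, hu, by ext v; simp⟩

theorem isLift_of {n : ℕ} {i j : Fin (n + 1)} {h : Hg} {s : O.K n i ≃ₗ[O.Rn n] O.K n j} (hs : s ∈ O.Good n i j h)
    {u : O.K n i ≃ₗ[O.Rn n] O.K n i} (hu : un u ∈ (O.N n i).V 0) : O.IsLift h (u.trans s) :=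
  ⟨s, hs, by
    have : (u.trans s).trans s.symm = u := by ext v; simp
    rw [this]
    exact hu⟩

theorem isLift_of_good {n : ℕ} {i j : Fin (n + 1)} {h : Hg} {s : O.K n i ≃ₗ[O.Rn n] O.K n j}
    (hs : s ∈ O.Good n i j h) : O.IsLift h s := by
  have := isLift_of hs (u := LinearEquiv.refl _ _) (by
    have : un (LinearEquiv.refl (O.Rn n) (O.K n i)) = 1 := rfl
    rw [this]
    exact Subgroup.one_mem _)
  exact this

/-- conjugation of a unipotent automorphism -/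
theorem good_conj_V {n : ℕ} {i j : Fin (n + 1)} {h : Hg} {s : O.K n i ≃ₗ[O.Rn n] O.K n j} (hs : s ∈ O.Good n i j h)
    {r : ℕ} {u : O.K n i ≃ₗ[O.Rn n] O.K n i} (hu : un u ∈ (O.N n i).V r) :
    un ((s.symm.trans u).trans s) ∈ (O.N n j).V r := by
  have h1 := O.good_conj hs hu
  show _ ∈ _
  rw [NFil.mem_V, un_val, coe_trans_conj]
  exact h1

theorem IsLift.trans {n : ℕ} {i j l : Fin (n + 1)} {h h' : Hg} {ψ : O.K n i ≃ₗ[O.Rn n] O.K n j}
    {χ : O.K n j ≃ₗ[O.Rn n] O.K n l} (hψ : O.IsLift h ψ) (hχ : O.IsLift h' χ) : O.IsLift (h' * h) (ψ.trans χ) := by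
  obtain ⟨s, hs, u, hu, rfl⟩ := hψ.exists_un
  obtain ⟨t, ht, w, hw, rfl⟩ := hχ.exists_un
  have h1 := good_conj_V (O.good_symm hs) hw
  have h2 : (u.trans s).trans (w.trans t) =
      (u.trans ((s.symm.symm.trans w).trans s.symm)).trans (s.trans t) := by ext v; simp
  rw [h2]
  refine isLift_of (O.good_trans hs ht) ?_
  rw [un_trans]
  exact Subgroup.mul_mem _ h1 hu

theorem IsLift.symm {n : ℕ} {i j : Fin (n + 1)} {h : Hg} {ψ : O.K n i ≃ₗ[O.Rn n] O.K n j} (hψ : O.IsLift h ψ) :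
    O.IsLift h⁻¹ ψ.symm := by
  obtain ⟨s, hs, u, hu, rfl⟩ := hψ.exists_un
  have hu' : un u.symm ∈ (O.N n i).V 0 := by
    rw [un_symm]
    exact Subgroup.inv_mem _ hu
  have h1 := good_conj_V hs hu'
  have h2 : (u.trans s).symm = ((s.symm.trans u.symm).trans s).trans s.symm := by ext v; simp
  rw [h2]
  exact isLift_of (O.good_symm hs) h1

theorem IsLift.unip {n : ℕ} {i : Fin (n + 1)} {ψ : O.K n i ≃ₗ[O.Rn n] O.K n i} (hψ : O.IsLift 1 ψ) :
    un ψ ∈ (O.N n i).V 0 := by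
  obtain ⟨s, hs, u, hu, rfl⟩ := hψ.exists_un
  rw [un_trans]
  exact Subgroup.mul_mem _ (O.good_loop hs) hu

theorem IsLift.conj {n : ℕ} {i j : Fin (n + 1)} {h : Hg} {ψ : O.K n i ≃ₗ[O.Rn n] O.K n j} (hψ : O.IsLift h ψ)
    {r : ℕ} {L : Module.End (O.Rn n) (O.K n i)} (hL : L ∈ (O.N n i).F r) : ψ.conj L ∈ (O.N n j).F r := by
  obtain ⟨s, hs, u, hu, rfl⟩ := hψ.exists_un
  have h1 : (u.trans s).conj L = s.conj (u.conj L) := by ext v; simp [LinearEquiv.conj_apply]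
  rw [h1]
  refine O.good_conj hs ?_
  rw [conj_un]
  exact (O.N n i).Nz_of_mem_V hu _ _ hL

theorem isLift_refl {n : ℕ} {i : Fin (n + 1)} : O.IsLift 1 (LinearEquiv.refl (O.Rn n) (O.K n i)) := by
  obtain ⟨s, hs⟩ := O.good_ne n i i 1
  have h1 := O.good_symm hs
  rw [inv_one] at h1
  exact ⟨s, hs, O.good_loop h1⟩

theorem bc_sub {m n : ℕ} (a : Fin (m + 1) → Fin (n + 1)) {i j : Fin (m + 1)} (L M : O.K m i →ₗ[O.Rn m] O.K m j) :
    O.bc a (L - M) = O.bc a L - O.bc a M := by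
  have := O.bc_add a (L - M) M
  rw [sub_add_cancel] at this
  exact eq_sub_of_add_eq this.symm

/-- base change of isomorphisms -/
def bcE {m n : ℕ} (a : Fin (m + 1) → Fin (n + 1)) {i j : Fin (m + 1)} (ψ : O.K m i ≃ₗ[O.Rn m] O.K m j) :
    O.K n (a i) ≃ₗ[O.Rn n] O.K n (a j) :=
  LinearEquiv.ofLinearMap (O.bc a ψ) (O.bc a ψ.symm) (by
    rw [← O.bc_comp]
    have : (ψ : O.K m i →ₗ[O.Rn m] O.K m j) ∘ₗ ψ.symm = LinearMap.id := by ext v; simp
    rw [this, O.bc_id]) (by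
    rw [← O.bc_comp]
    have : (ψ.symm : O.K m j →ₗ[O.Rn m] O.K m i) ∘ₗ ψ = LinearMap.id := by ext v; simp
    rw [this, O.bc_id])

theorem coe_bcE {m n : ℕ} (a : Fin (m + 1) → Fin (n + 1)) {i j : Fin (m + 1)} (ψ : O.K m i ≃ₗ[O.Rn m] O.K m j) :
    ((O.bcE a ψ : O.K n (a i) ≃ₗ[O.Rn n] O.K n (a j)) : O.K n (a i) →ₗ[O.Rn n] O.K n (a j)) = O.bc a ψ := by
  ext v
  rfl

theorem bcE_trans {m n : ℕ} (a : Fin (m + 1) → Fin (n + 1)) {i j l : Fin (m + 1)} (ψ : O.K m i ≃ₗ[O.Rn m] O.K m j)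
    (χ : O.K m j ≃ₗ[O.Rn m] O.K m l) : O.bcE a (ψ.trans χ) = (O.bcE a ψ).trans (O.bcE a χ) := by
  apply LinearEquiv.toLinearMap_injective
  rw [coe_bcE, LinearEquiv.coe_trans, LinearEquiv.coe_trans, coe_bcE, coe_bcE, O.bc_comp]

theorem bcE_bcE {l m n : ℕ} (b : Fin (m + 1) → Fin (n + 1)) (a : Fin (l + 1) → Fin (m + 1)) {i j : Fin (l + 1)}
    (ψ : O.K l i ≃ₗ[O.Rn l] O.K l j) : O.bcE b (O.bcE a ψ) = O.bcE (fun r => b (a r)) ψ := by
  apply LinearEquiv.toLinearMap_injective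
  rw [coe_bcE, coe_bcE, O.bc_bc]
  exact (coe_bcE (O := O) (fun r => b (a r)) ψ).symm

theorem bcE_good {m n : ℕ} (a : Fin (m + 1) → Fin (n + 1)) {i j : Fin (m + 1)} {h : Hg}
    {s : O.K m i ≃ₗ[O.Rn m] O.K m j} (hs : s ∈ O.Good m i j h) : O.bcE a s ∈ O.Good n (a i) (a j) h := by
  obtain ⟨t, ht, hts⟩ := O.good_bc a hs
  have : O.bcE a s = t := LinearEquiv.toLinearMap_injective ((coe_bcE a s).trans hts.symm)
  rwa [this]

theorem bcE_sub_one {m n : ℕ} (a : Fin (m + 1) → Fin (n + 1)) {i : Fin (m + 1)} (u : O.K m i ≃ₗ[O.Rn m] O.K m i) :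
    ((O.bcE a u : O.K n (a i) ≃ₗ[O.Rn n] O.K n (a i)) : Module.End (O.Rn n) (O.K n (a i))) - 1 =
      O.bc a ((u : Module.End (O.Rn m) (O.K m i)) - 1) := by
  rw [bc_sub]
  have h1 : O.bc a ((1 : Module.End (O.Rn m) (O.K m i)) : O.K m i →ₗ[O.Rn m] O.K m i) = LinearMap.id := O.bc_id a
  rw [h1, coe_bcE]
  rfl

theorem bcE_V {m n : ℕ} (a : Fin (m + 1) → Fin (n + 1)) {i : Fin (m + 1)} {r : ℕ} {u : O.K m i ≃ₗ[O.Rn m] O.K m i}
    (hu : un u ∈ (O.N m i).V r) : un (O.bcE a u) ∈ (O.N n (a i)).V r := by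
  rw [NFil.mem_V, un_val, bcE_sub_one]
  exact O.bc_N a hu

theorem IsLift.bcE {m n : ℕ} (a : Fin (m + 1) → Fin (n + 1)) {i j : Fin (m + 1)} {h : Hg}
    {ψ : O.K m i ≃ₗ[O.Rn m] O.K m j} (hψ : O.IsLift h ψ) : O.IsLift h (O.bcE a ψ) := by
  obtain ⟨s, hs, u, hu, rfl⟩ := hψ.exists_un
  rw [bcE_trans]
  exact isLift_of (bcE_good a hs) (bcE_V a hu)

theorem bc_conj {m n : ℕ} (a : Fin (m + 1) → Fin (n + 1)) {i j : Fin (m + 1)} (ψ : O.K m i ≃ₗ[O.Rn m] O.K m j)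
    (L : Module.End (O.Rn m) (O.K m i)) : O.bc a (ψ.conj L) = (O.bcE a ψ).conj (O.bc a L) := by
  have h1 : ψ.conj L = (ψ : O.K m i →ₗ[O.Rn m] O.K m j) ∘ₗ L ∘ₗ ψ.symm := by ext v; simp [LinearEquiv.conj_apply]
  rw [h1, O.bc_comp, O.bc_comp]
  ext v
  simp [LinearEquiv.conj_apply]
  rfl

variable (O)

/-- the graded piece -/
abbrev MM (q n : ℕ) : Type u := ↥((O.N n 0).F (q - 1)) ⧸ ((O.N n 0).F q).addSubgroupOf ((O.N n 0).F (q - 1))

open Classical in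
/-- the class of an operator at the vertex `0` -/
noncomputable def cls (q n : ℕ) (L : Module.End (O.Rn n) (O.K n 0)) : O.MM q n :=
  if h : L ∈ (O.N n 0).F (q - 1) then QuotientAddGroup.mk ⟨L, h⟩ else 0

instance (n : ℕ) : Subsingleton (O.MM 0 n) := by
  refine ⟨fun x y => ?_⟩
  obtain ⟨x, rfl⟩ := QuotientAddGroup.mk_surjective x
  obtain ⟨y, rfl⟩ := QuotientAddGroup.mk_surjective y
  rw [QuotientAddGroup.eq, AddSubgroup.mem_addSubgroupOf]
  exact (-x + y).2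

variable {O}

theorem cls_of {q n : ℕ} {L : Module.End (O.Rn n) (O.K n 0)} (h : L ∈ (O.N n 0).F (q - 1)) :
    O.cls q n L = QuotientAddGroup.mk ⟨L, h⟩ := dif_pos h

theorem cls_add {q n : ℕ} {L M : Module.End (O.Rn n) (O.K n 0)} (hL : L ∈ (O.N n 0).F (q - 1))
    (hM : M ∈ (O.N n 0).F (q - 1)) : O.cls q n (L + M) = O.cls q n L + O.cls q n M := by
  rw [cls_of hL, cls_of hM, cls_of (AddSubgroup.add_mem _ hL hM)]
  rfl

theorem cls_congr {q n : ℕ} {L M : Module.End (O.Rn n) (O.K n 0)} (hL : L ∈ (O.N n 0).F (q - 1))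
    (hM : M ∈ (O.N n 0).F (q - 1)) (h : L - M ∈ (O.N n 0).F q) : O.cls q n L = O.cls q n M := by
  rw [cls_of hL, cls_of hM, QuotientAddGroup.eq]
  rw [AddSubgroup.mem_addSubgroupOf]
  have : -L + M = -(L - M) := by abel
  show -L + M ∈ _
  rw [this]
  exact AddSubgroup.neg_mem _ h

theorem cls_eq_zero {q n : ℕ} {L : Module.End (O.Rn n) (O.K n 0)} (hL : L ∈ (O.N n 0).F (q - 1)) :
    O.cls q n L = 0 ↔ L ∈ (O.N n 0).F q := by
  rw [cls_of hL, QuotientAddGroup.eq_zero_iff, AddSubgroup.mem_addSubgroupOf]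

theorem cls_surj {q n : ℕ} (x : O.MM q n) : ∃ L ∈ (O.N n 0).F (q - 1), O.cls q n L = x := by
  obtain ⟨⟨L, hL⟩, rfl⟩ := QuotientAddGroup.mk_surjective x
  exact ⟨L, hL, cls_of hL⟩

/-- a representative -/
noncomputable def rep {q n : ℕ} (x : O.MM q n) : Module.End (O.Rn n) (O.K n 0) := (cls_surj x).choose

theorem rep_mem {q n : ℕ} (x : O.MM q n) : O.rep x ∈ (O.N n 0).F (q - 1) := (cls_surj x).choose_spec.1

theorem cls_rep {q n : ℕ} (x : O.MM q n) : O.cls q n (O.rep x) = x := (cls_surj x).choose_spec.2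

theorem rep_cls {q n : ℕ} {L : Module.End (O.Rn n) (O.K n 0)} (hL : L ∈ (O.N n 0).F (q - 1)) :
    O.rep (O.cls q n L) - L ∈ (O.N n 0).F q := by
  have h1 := cls_rep (O.cls q n L)
  have h2 := AddSubgroup.sub_mem _ (rep_mem (O.cls q n L)) hL
  rw [← cls_eq_zero h2]
  have h3 := cls_add (O := O) h2 hL
  rw [sub_add_cancel, h1] at h3
  exact add_right_cancel (h3.symm.trans (zero_add _).symm)

/-- two lifts of the same degree conjugate in the same way modulo the next step -/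
theorem conj_cls {r n : ℕ} {i : Fin (n + 1)} {h : Hg} {ψ χ : O.K n i ≃ₗ[O.Rn n] O.K n 0} (hψ : O.IsLift h ψ)
    (hχ : O.IsLift h χ) {L : Module.End (O.Rn n) (O.K n i)} (hL : L ∈ (O.N n i).F r) :
    O.cls (r + 1) n (ψ.conj L) = O.cls (r + 1) n (χ.conj L) := by
  have h1 : O.IsLift 1 (χ.symm.trans ψ) := by
    have := hχ.symm.trans hψ
    rwa [mul_inv_cancel] at this
  have h2 : ψ.conj L = (χ.symm.trans ψ).conj (χ.conj L) := by ext v; simp [LinearEquiv.conj_apply]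
  have h3 : χ.conj L ∈ (O.N n 0).F r := hχ.conj hL
  refine cls_congr (q := r + 1) (hψ.conj hL) h3 ?_
  rw [h2, conj_un]
  exact (O.N n 0).conj_sub_of_mem_V h1.unip h3

variable (O)

/-- a good isomorphism to the vertex `0` -/
noncomputable def g0 (n : ℕ) (i : Fin (n + 1)) : O.K n i ≃ₗ[O.Rn n] O.K n 0 := (O.good_ne n i 0 1).some

theorem g0_good (n : ℕ) (i : Fin (n + 1)) : O.g0 n i ∈ O.Good n i 0 1 := (O.good_ne n i 0 1).some_mem

/-- a good isomorphism over `h` -/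
noncomputable def gh (n : ℕ) (h : Hg) : O.K n 0 ≃ₗ[O.Rn n] O.K n 0 := (O.good_ne n 0 0 h).some

theorem gh_good (n : ℕ) (h : Hg) : O.gh n h ∈ O.Good n 0 0 h := (O.good_ne n 0 0 h).some_mem

/-- the class of an operator at the vertex `i` -/
noncomputable def clsi (q n : ℕ) (i : Fin (n + 1)) (L : Module.End (O.Rn n) (O.K n i)) : O.MM q n :=
  O.cls q n ((O.g0 n i).conj L)

/-- the action of `h` -/
noncomputable def actM (q n : ℕ) (h : Hg) (x : O.MM q n) : O.MM q n := O.cls q n ((O.gh n h).conj (O.rep x))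

/-- the pull-back on the graded pieces -/
noncomputable def MpM (q : ℕ) {m n : ℕ} (a : Fin (m + 1) → Fin (n + 1)) (x : O.MM q m) : O.MM q n :=
  O.clsi q n (a 0) (O.bc a (O.rep x))

variable {O}

theorem g0_conj {r n : ℕ} {i : Fin (n + 1)} {L : Module.End (O.Rn n) (O.K n i)} (hL : L ∈ (O.N n i).F r) :
    (O.g0 n i).conj L ∈ (O.N n 0).F r := O.good_conj (O.g0_good n i) hL

theorem clsi_add {r n : ℕ} {i : Fin (n + 1)} {L M : Module.End (O.Rn n) (O.K n i)} (hL : L ∈ (O.N n i).F r)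
    (hM : M ∈ (O.N n i).F r) : O.clsi (r + 1) n i (L + M) = O.clsi (r + 1) n i L + O.clsi (r + 1) n i M := by
  unfold clsi
  rw [map_add]
  exact cls_add (g0_conj hL) (g0_conj hM)

theorem clsi_congr {r n : ℕ} {i : Fin (n + 1)} {L M : Module.End (O.Rn n) (O.K n i)} (hL : L ∈ (O.N n i).F r)
    (hM : M ∈ (O.N n i).F r) (h : L - M ∈ (O.N n i).F (r + 1)) : O.clsi (r + 1) n i L = O.clsi (r + 1) n i M := by
  refine cls_congr (g0_conj hL) (g0_conj hM) ?_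
  rw [← map_sub]
  exact g0_conj h

theorem clsi_eq_zero {r n : ℕ} {i : Fin (n + 1)} {L : Module.End (O.Rn n) (O.K n i)} (hL : L ∈ (O.N n i).F r) :
    O.clsi (r + 1) n i L = 0 ↔ L ∈ (O.N n i).F (r + 1) := by
  unfold clsi
  rw [cls_eq_zero (q := r + 1) (g0_conj hL)]
  refine ⟨fun h => ?_, fun h => g0_conj h⟩
  have h1 := O.good_conj (O.good_symm (O.g0_good n i)) h
  rwa [conj_symm_conj] at h1

theorem clsi_surj {r n : ℕ} (i : Fin (n + 1)) (x : O.MM (r + 1) n) : ∃ L ∈ (O.N n i).F r, O.clsi (r + 1) n i L = x := by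
  obtain ⟨L, hL, rfl⟩ := cls_surj x
  refine ⟨(O.g0 n i).symm.conj L, O.good_conj (O.good_symm (O.g0_good n i)) hL, ?_⟩
  unfold clsi
  congr 1
  ext v
  simp [LinearEquiv.conj_apply]

/-- conjugation with a lift of degree `1` does not change the class -/
theorem clsi_conj {r n : ℕ} {i j : Fin (n + 1)} {ψ : O.K n i ≃ₗ[O.Rn n] O.K n j} (hψ : O.IsLift 1 ψ)
    {L : Module.End (O.Rn n) (O.K n i)} (hL : L ∈ (O.N n i).F r) :
    O.clsi (r + 1) n j (ψ.conj L) = O.clsi (r + 1) n i L := by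
  have h1 : (O.g0 n j).conj (ψ.conj L) = (ψ.trans (O.g0 n j)).conj L := by ext v; simp [LinearEquiv.conj_apply]
  unfold clsi
  rw [h1]
  refine conj_cls (h := 1) ?_ (isLift_of_good (O.g0_good n i)) hL
  have := hψ.trans (isLift_of_good (O.g0_good n j))
  rwa [mul_one] at this

/-- conjugation with a lift of degree `h` -/
theorem clsi_conj_act {r n : ℕ} {i j : Fin (n + 1)} {h : Hg} {ψ : O.K n i ≃ₗ[O.Rn n] O.K n j} (hψ : O.IsLift h ψ)
    {L : Module.End (O.Rn n) (O.K n i)} (hL : L ∈ (O.N n i).F r) :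
    O.clsi (r + 1) n j (ψ.conj L) = O.actM (r + 1) n h (O.clsi (r + 1) n i L) := by
  unfold actM clsi
  have h0 : (O.g0 n i).conj L ∈ (O.N n 0).F r := g0_conj hL
  have h1 : (O.g0 n j).conj (ψ.conj L) = (ψ.trans (O.g0 n j)).conj L := by ext v; simp [LinearEquiv.conj_apply]
  have h2 : O.cls (r + 1) n ((O.gh n h).conj (O.rep (O.cls (r + 1) n ((O.g0 n i).conj L)))) =
      O.cls (r + 1) n ((O.gh n h).conj ((O.g0 n i).conj L)) := by
    refine cls_congr (O.good_conj (O.gh_good n h) (rep_mem _)) (O.good_conj (O.gh_good n h) h0) ?_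
    rw [← map_sub]
    exact O.good_conj (O.gh_good n h) (rep_cls h0)
  have h3 : (O.gh n h).conj ((O.g0 n i).conj L) = ((O.g0 n i).trans (O.gh n h)).conj L := by
    ext v; simp [LinearEquiv.conj_apply]
  rw [h2, h3, h1]
  refine conj_cls (h := h) ?_ ?_ hL
  · have := hψ.trans (isLift_of_good (O.g0_good n j))
    rwa [one_mul] at this
  · have := (isLift_of_good (O.g0_good n i)).trans (isLift_of_good (O.gh_good n h))
    rwa [mul_one] at this

theorem actM_one {r n : ℕ} (x : O.MM (r + 1) n) : O.actM (r + 1) n 1 x = x := by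
  obtain ⟨L, hL, rfl⟩ := clsi_surj (0 : Fin (n + 1)) x
  rw [← clsi_conj_act (isLift_refl (i := 0)) hL, clsi_conj isLift_refl hL]

theorem MpM_clsi {r m n : ℕ} (a : Fin (m + 1) → Fin (n + 1)) {i : Fin (m + 1)}
    {L : Module.End (O.Rn m) (O.K m i)} (hL : L ∈ (O.N m i).F r) :
    O.MpM (r + 1) a (O.clsi (r + 1) m i L) = O.clsi (r + 1) n (a i) (O.bc a L) := by
  unfold MpM
  have h0 : (O.g0 m i).conj L ∈ (O.N m 0).F r := g0_conj hL
  have hr : O.rep (O.clsi (r + 1) m i L) ∈ (O.N m 0).F r := rep_mem (O.clsi (r + 1) m i L)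
  have h1 : O.clsi (r + 1) n (a 0) (O.bc a (O.rep (O.clsi (r + 1) m i L))) =
      O.clsi (r + 1) n (a 0) (O.bc a ((O.g0 m i).conj L)) := by
    refine clsi_congr (O.bc_N a hr) (O.bc_N a h0) ?_
    rw [← bc_sub]
    exact O.bc_N a (rep_cls h0)
  rw [h1, bc_conj]
  exact clsi_conj (isLift_of_good (bcE_good a (O.g0_good m i))) (O.bc_N a hL)

variable (O)

/-- the arrows -/
def Ar (n : ℕ) (i j : Fin (n + 1)) : Type (max u v) :=
  {p : Hg × (O.K n i ≃ₗ[O.Rn n] O.K n j) // O.IsLift p.1 p.2}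

variable {O}

theorem Ar.ext' {n : ℕ} {i j : Fin (n + 1)} {x y : O.Ar n i j} (h1 : x.1.1 = y.1.1) (h2 : x.1.2 = y.1.2) : x = y :=
  Subtype.ext (Prod.ext h1 h2)

theorem MpM_add {r m n : ℕ} (a : Fin (m + 1) → Fin (n + 1)) (x y : O.MM (r + 1) m) :
    O.MpM (r + 1) a (x + y) = O.MpM (r + 1) a x + O.MpM (r + 1) a y := by
  obtain ⟨L, hL, rfl⟩ := clsi_surj (0 : Fin (m + 1)) x
  obtain ⟨M, hM, rfl⟩ := clsi_surj (0 : Fin (m + 1)) y
  rw [← clsi_add hL hM, MpM_clsi a (AddSubgroup.add_mem _ hL hM), MpM_clsi a hL, MpM_clsi a hM, O.bc_add]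
  exact clsi_add (O.bc_N a hL) (O.bc_N a hM)

theorem coe_trans_sub {n : ℕ} {i : Fin (n + 1)} (u w : O.K n i ≃ₗ[O.Rn n] O.K n i) :
    ((w.trans u : O.K n i ≃ₗ[O.Rn n] O.K n i) : Module.End (O.Rn n) (O.K n i)) - 1 =
      (((u : Module.End (O.Rn n) (O.K n i)) - 1) + ((w : Module.End (O.Rn n) (O.K n i)) - 1)) +
        ((u : Module.End (O.Rn n) (O.K n i)) - 1) * ((w : Module.End (O.Rn n) (O.K n i)) - 1) := by
  ext v
  simp

variable (O)

open Classical in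
/-- **The transport system of operators and good isomorphisms.** -/
noncomputable def toTS : TS.{max u v, v, u} Hg where
  L := O.Ar
  mul y x := ⟨(y.1.1 * x.1.1, x.1.2.trans y.1.2), x.2.trans y.2⟩
  one := ⟨(1, LinearEquiv.refl _ _), isLift_refl⟩
  inv x := ⟨(x.1.1⁻¹, x.1.2.symm), x.2.symm⟩
  mul_assoc z y x := Ar.ext' (mul_assoc _ _ _) rfl
  one_mul x := Ar.ext' (one_mul _) (by ext v; rfl)
  mul_one x := Ar.ext' (mul_one _) (by ext v; rfl)
  inv_mul x := Ar.ext' (inv_mul_cancel _) (by ext v; simp)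
  mul_inv x := Ar.ext' (mul_inv_cancel _) (by ext v; simp)
  P a _ _ x := ⟨(x.1.1, O.bcE a x.1.2), x.2.bcE a⟩
  P_mul a _ _ _ y x := Ar.ext' rfl (bcE_trans a _ _)
  P_comp b a _ _ x := Ar.ext' rfl (bcE_bcE b a _)
  deg x := x.1.1
  deg_mul _ _ := rfl
  deg_P _ _ _ _ := rfl
  F n i q := {x | x.1.1 = 1 ∧ (x.1.2 : Module.End (O.Rn n) (O.K n i)) - 1 ∈ (O.N n i).F (q - 1)}
  F_one n i x := by
    constructor
    · exact fun h => h.1
    · intro h
      refine ⟨h, ?_⟩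
      have h1 := x.2
      rw [show x.1.1 = 1 from h] at h1
      exact h1.unip
  F_deg n i q x h := h.1
  F_mul {n i q x y} hq hx hy := by
    refine ⟨by show (x.1.1 * y.1.1 : Hg) = 1; rw [show x.1.1 = 1 from hx.1, show y.1.1 = 1 from hy.1, mul_one], ?_⟩
    have : un (y.1.2.trans x.1.2) ∈ (O.N n i).V (q - 1) := by
      rw [un_trans]
      exact Subgroup.mul_mem _ (show un x.1.2 ∈ (O.N n i).V (q - 1) from hx.2)
        (show un y.1.2 ∈ (O.N n i).V (q - 1) from hy.2)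
    exact this
  F_inv {n i q x} hq hx := by
    refine ⟨by show (x.1.1⁻¹ : Hg) = 1; rw [show x.1.1 = 1 from hx.1, inv_one], ?_⟩
    have : un x.1.2.symm ∈ (O.N n i).V (q - 1) := by
      rw [un_symm]
      exact Subgroup.inv_mem _ (show un x.1.2 ∈ (O.N n i).V (q - 1) from hx.2)
    exact this
  F_conj {n i j q} g x hq hx := by
    refine ⟨by show (g.1.1 * x.1.1 * g.1.1⁻¹ : Hg) = 1; rw [show x.1.1 = 1 from hx.1, mul_one, mul_inv_cancel], ?_⟩
    have h1 : (((g.1.2.symm.trans (x.1.2.trans g.1.2)) : O.K n j ≃ₗ[O.Rn n] O.K n j) :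
        Module.End (O.Rn n) (O.K n j)) - 1 = g.1.2.conj ((x.1.2 : Module.End (O.Rn n) (O.K n i)) - 1) := by
      ext v; simp [LinearEquiv.conj_apply]
    show (((g.1.2.symm.trans (x.1.2.trans g.1.2)) : O.K n j ≃ₗ[O.Rn n] O.K n j) :
        Module.End (O.Rn n) (O.K n j)) - 1 ∈ _
    rw [h1]
    exact g.2.conj hx.2
  F_P {m n} a i q x hq hx := by
    refine ⟨hx.1, ?_⟩
    show ((O.bcE a x.1.2 : O.K n (a i) ≃ₗ[O.Rn n] O.K n (a i)) : Module.End (O.Rn n) (O.K n (a i))) - 1 ∈ _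
    rw [bcE_sub_one]
    exact O.bc_N a hx.2
  M := O.MM
  addM q n := inferInstance
  act q n := O.actM q n
  act_one q n x := by
    cases q with
    | zero => exact Subsingleton.elim _ _
    | succ r => exact actM_one x
  Mp q _ _ a := O.MpM q a
  Mp_add q m n a x y := by
    cases q with
    | zero => exact Subsingleton.elim _ _
    | succ r => exact MpM_add a x y
  lam q n i x := O.clsi q n i ((x.1.2 : Module.End (O.Rn n) (O.K n i)) - 1)
  lam_mul {q n i x y} hq hx hy := by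
    obtain ⟨r, rfl⟩ : ∃ r, q = r + 1 := ⟨q - 1, by omega⟩
    show O.clsi (r + 1) n i (((y.1.2.trans x.1.2 : O.K n i ≃ₗ[O.Rn n] O.K n i) : Module.End (O.Rn n) (O.K n i)) - 1) = _
    have hxr : (x.1.2 : Module.End (O.Rn n) (O.K n i)) - 1 ∈ (O.N n i).F r := hx.2
    have hyr : (y.1.2 : Module.End (O.Rn n) (O.K n i)) - 1 ∈ (O.N n i).F r := hy.2
    rw [← clsi_add hxr hyr]
    have h2 : un x.1.2 * un y.1.2 ∈ (O.N n i).V r := Subgroup.mul_mem _ hxr hyr
    refine clsi_congr (L := ((y.1.2.trans x.1.2 : O.K n i ≃ₗ[O.Rn n] O.K n i) : Module.End (O.Rn n) (O.K n i)) - 1)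
      h2 (AddSubgroup.add_mem _ hxr hyr) ?_
    exact (O.N n i).mul_sub (u := un x.1.2) (v := un y.1.2) hxr hyr
  lam_conj {q n i j} g x hq hx := by
    obtain ⟨r, rfl⟩ : ∃ r, q = r + 1 := ⟨q - 1, by omega⟩
    have h1 : (((g.1.2.symm.trans (x.1.2.trans g.1.2)) : O.K n j ≃ₗ[O.Rn n] O.K n j) :
        Module.End (O.Rn n) (O.K n j)) - 1 = g.1.2.conj ((x.1.2 : Module.End (O.Rn n) (O.K n i)) - 1) := by
      ext v; simp [LinearEquiv.conj_apply]
    show O.clsi (r + 1) n j ((((g.1.2.symm.trans (x.1.2.trans g.1.2)) : O.K n j ≃ₗ[O.Rn n] O.K n j) :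
        Module.End (O.Rn n) (O.K n j)) - 1) = _
    rw [h1]
    exact clsi_conj_act g.2 hx.2
  lam_P {q m n} a i x hq hx := by
    obtain ⟨r, rfl⟩ : ∃ r, q = r + 1 := ⟨q - 1, by omega⟩
    show O.clsi (r + 1) n (a i)
      (((O.bcE a x.1.2 : O.K n (a i) ≃ₗ[O.Rn n] O.K n (a i)) : Module.End (O.Rn n) (O.K n (a i))) - 1) = _
    rw [bcE_sub_one]
    exact (MpM_clsi a hx.2).symm
  lam_ker {q n i x} hq hx h := by
    obtain ⟨r, rfl⟩ : ∃ r, q = r + 1 := ⟨q - 1, by omega⟩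
    exact ⟨hx.1, (clsi_eq_zero hx.2).mp h⟩
  lam_surj {q n} i hq b := by
    obtain ⟨r, rfl⟩ : ∃ r, q = r + 1 := ⟨q - 1, by omega⟩
    obtain ⟨L, hL, hb⟩ := clsi_surj i b
    obtain ⟨u, hu⟩ := (O.N n i).exists_unit hL
    have h1 : ((ofUn u : O.K n i ≃ₗ[O.Rn n] O.K n i) : Module.End (O.Rn n) (O.K n i)) - 1 = L := by
      rw [coe_ofUn, hu, add_sub_cancel_left]
    have h2 : un (ofUn u) ∈ (O.N n i).V r := by
      rw [NFil.mem_V, un_val, h1]
      exact hL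
    refine ⟨⟨(1, ofUn u), ?_⟩, ⟨rfl, h2⟩, ?_⟩
    · obtain ⟨s, hs⟩ := O.good_ne n i i 1
      have h3 : O.IsLift (1 * 1) ((ofUn u).trans (LinearEquiv.refl _ _)) := by
        have h4 : O.IsLift 1 (ofUn u) := by
          refine ⟨s, hs, ?_⟩
          have h5 : un ((ofUn u).trans s.symm) ∈ (O.N n i).V 0 := by
            rw [un_trans]
            refine Subgroup.mul_mem _ ?_ (NFil.V_le _ (Nat.zero_le r) h2)
            have h6 := O.good_symm hs
            rw [inv_one] at h6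
            exact O.good_loop h6
          exact h5
        exact h4.trans isLift_refl
      rwa [mul_one] at h3
    · show O.clsi (r + 1) n i (((ofUn u : O.K n i ≃ₗ[O.Rn n] O.K n i) : Module.End (O.Rn n) (O.K n i)) - 1) = b
      rw [h1, hb]
  F_anti {n i q x} hq hx := ⟨hx.1, (O.N n i).le (by omega) hx.2⟩
  lam_zero {q n i x} hq hx := by
    obtain ⟨r, rfl⟩ : ∃ r, q = r + 1 := ⟨q - 1, by omega⟩
    exact (clsi_eq_zero ((O.N n i).le (by omega) hx.2)).mpr hx.2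

/-- the last step of the filtration of the transport system is trivial -/
theorem toTS_top {k : ℕ} (hk : ∀ n i x, x ∈ (O.N n i).F k → x = 0) (n : ℕ) (i : Fin (n + 1))
    (x : O.toTS.L n i i) (hx : x ∈ O.toTS.F n i (k + 1)) : x = O.toTS.one := by
  have h1 : (x.1.2 : Module.End (O.Rn n) (O.K n i)) - 1 = 0 := hk n i _ hx.2
  refine Ar.ext' hx.1 ?_
  apply LinearEquiv.toLinearMap_injective
  exact sub_eq_zero.mp h1

end OpSys

end Groth.Agent.ResProp.EF.K363
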