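import Groth.Agent.ResProp.EF.K980.BC
import Groth.Agent.ResProp.EF.K363.OpSys

/-!
# AD1, first half: levels of flat points and the operators `DD_x`

`LvRing R` : rings `Rn n` with flat vertex maps `x n i : R → Rn n` and structure maps for all maps of vertices.
`DDx x S` : the `R'`-span of the base changes of the operators in `S ⊆ End_R K`.
-/

set_option autoImplicit false

namespace Groth.Agent.ResProp.EF.K363

open Groth.Agent.ResProp.EF.K980 Groth.Agent.ResProp.EF.K734

universe u v

/-- levels of a nerve with flat vertices -/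
structure LvRing (R : Type u) [CommRing R] where
  Rn : ℕ → Type u
  [crR : ∀ n, CommRing (Rn n)]
  x : ∀ (n : ℕ), Fin (n + 1) → (R →+* Rn n)
  flat : ∀ n i, (x n i).Flat
  r : ∀ {m n : ℕ} (_ : Fin (m + 1) → Fin (n + 1)), Rn m →+* Rn n
  r_x : ∀ {m n : ℕ} (a : Fin (m + 1) → Fin (n + 1)) (i : Fin (m + 1)), (r a).comp (x m i) = x n (a i)
  r_r : ∀ {l m n : ℕ} (b : Fin (m + 1) → Fin (n + 1)) (a : Fin (l + 1) → Fin (m + 1)),
    (r b).comp (r a) = r (fun t => b (a t))

attribute [instance] LvRing.crR

section DDx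

variable {R : Type u} [CommRing R] {K : Type u} [AddCommGroup K] [Module R K]
variable {R' : Type u} [CommRing R'] {R'' : Type u} [CommRing R'']

/-- the base change of a submodule of operators -/
def DDx (x : R →+* R') (S : Submodule R (Module.End R K)) : Submodule R' (Module.End R' (BC x K)) :=
  Submodule.span R' ((fun L : Module.End R K => (BC.map x L : Module.End R' (BC x K))) '' S)

theorem map_mem_DDx (x : R →+* R') {S : Submodule R (Module.End R K)} {L : Module.End R K} (hL : L ∈ S) :
    (BC.map x L : Module.End R' (BC x K)) ∈ DDx x S := Submodule.subset_span ⟨L, hL, rfl⟩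

theorem DDx_mono (x : R →+* R') {S T : Submodule R (Module.End R K)} (h : S ≤ T) :
    (DDx x S : Submodule R' (Module.End R' (BC x K))) ≤ DDx x T := Submodule.span_mono (Set.image_mono h)

theorem DDx_mul (x : R →+* R') {S T U : Submodule R (Module.End R K)} (h : ∀ L ∈ S, ∀ M ∈ T, L * M ∈ U)
    {L M : Module.End R' (BC x K)} (hL : L ∈ DDx x S) (hM : M ∈ DDx x T) : L * M ∈ DDx x U := by
  unfold DDx at hL hM
  induction hL using Submodule.span_induction with
  | mem L hL =>
    obtain ⟨L, hL, rfl⟩ := hL
    induction hM using Submodule.span_induction with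
    | mem M hM =>
      obtain ⟨M, hM, rfl⟩ := hM
      have : (BC.map x L : Module.End R' (BC x K)) * BC.map x M = BC.map x (L * M) := (BC.map_comp L M).symm
      show (BC.map x L : Module.End R' (BC x K)) * BC.map x M ∈ _
      rw [this]
      exact map_mem_DDx x (h L hL M hM)
    | zero => rw [mul_zero]; exact zero_mem _
    | add M M' _ _ h1 h2 => rw [mul_add]; exact add_mem h1 h2
    | smul c M _ h1 => rw [mul_smul_comm]; exact Submodule.smul_mem _ _ h1
  | zero => rw [zero_mul]; exact zero_mem _
  | add L L' _ _ h1 h2 => rw [add_mul]; exact add_mem h1 h2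
  | smul c L _ h1 => rw [smul_mul_assoc]; exact Submodule.smul_mem _ _ h1

theorem DDx_bot (x : R →+* R') {L : Module.End R' (BC x K)} (h : L ∈ DDx x (⊥ : Submodule R (Module.End R K))) :
    L = 0 := by
  have h1 : (DDx x (⊥ : Submodule R (Module.End R K)) : Submodule R' (Module.End R' (BC x K))) ≤ ⊥ := by
    refine Submodule.span_le.mpr ?_
    rintro _ ⟨L, hL, rfl⟩
    rw [SetLike.mem_coe, Submodule.mem_bot] at hL
    subst hL
    rw [SetLike.mem_coe, Submodule.mem_bot]
    exact BC.map_zero'
  exact (Submodule.mem_bot R').mp (h1 h)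

theorem pull_mem_DDx {x : R →+* R'} {x' : R →+* R''} (f : R' →+* R'') (hx : f.comp x = x')
    {S : Submodule R (Module.End R K)} {L : Module.End R' (BC x K)} (hL : L ∈ DDx x S) :
    (BC.pull f hx hx L : Module.End R'' (BC x' K)) ∈ DDx x' S := by
  unfold DDx at hL
  induction hL using Submodule.span_induction with
  | mem L hL =>
    obtain ⟨L, hL, rfl⟩ := hL
    have := BC.pull_map (f := f) hx L
    show (BC.pull f hx hx (BC.map x L) : Module.End R'' (BC x' K)) ∈ _
    rw [this]
    exact map_mem_DDx x' hL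
  | zero =>
    have := BC.pull_zero (M := K) (N := K) hx hx
    show (BC.pull f hx hx (0 : BC x K →ₗ[R'] BC x K) : Module.End R'' (BC x' K)) ∈ _
    rw [this]
    exact zero_mem _
  | add L M _ _ h1 h2 =>
    show (BC.pull f hx hx (L + M : BC x K →ₗ[R'] BC x K) : Module.End R'' (BC x' K)) ∈ _
    rw [BC.pull_add]
    exact add_mem h1 h2
  | smul c L _ h1 =>
    show (BC.pull f hx hx (c • L : BC x K →ₗ[R'] BC x K) : Module.End R'' (BC x' K)) ∈ _
    rw [BC.pull_smul]
    exact Submodule.smul_mem _ _ h1

/-- the nilpotent filtration of `End (BC x K)` by `F r = DD_x (r + 1)` -/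
def nfilx (x : R →+* R') (DD : ℕ → Submodule R (Module.End R K)) (anti : ∀ q, DD (q + 1) ≤ DD q)
    (mul : ∀ (i j : ℕ) (L M : Module.End R K), L ∈ DD (i + 1) → M ∈ DD (j + 1) → L * M ∈ DD (i + j + 2)) (k : ℕ)
    (top : ∀ L, L ∈ DD (k + 1) → L = 0) : NFil (Module.End R' (BC x K)) where
  F r := (DDx x (DD (r + 1))).toAddSubgroup
  anti r _ h := DDx_mono x (anti (r + 1)) h
  mul i j L M hL hM := DDx_mul x (fun L hL M hM => mul i j L M hL hM) hL hM
  k := k
  top L hL := by
    have h1 : DD (k + 1) = ⊥ := (Submodule.eq_bot_iff _).mpr top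
    refine DDx_bot x (L := L) ?_
    rw [← h1]
    exact hL

end DDx

end Groth.Agent.ResProp.EF.K363
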