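import Groth.Agent.ResProp.EF.K980.Alg
import Groth.Agent.ResProp.EF.K363.AD1a

/-!
# AD1: the transport system of an `AlgPkg`

`LvArr P Lv Hg` : arrows `arr n i j h : x_(n,i) → x_(n,j)` of `P` for all edges and all `h : Hg`.
`opSys` , `ts` : the `OpSys` / `TS` of an `AlgPkg P`, levels `Lv`, arrows `LvArr`.
-/

set_option autoImplicit false

namespace Groth.Agent.ResProp.EF.K363

open Groth.Agent.ResProp.EF.K980 Groth.Agent.ResProp.EF.K734

universe u v

section Op

variable {R : Type u} [CommRing R] {K : Type u} [AddCommGroup K] [Module R K] {R' : Type u} [CommRing R']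

/-- 980's operators over `R'` are the span of the base changes -/
theorem opBC_eq (x : R →+* R') (S : Submodule R (K →ₗ[R] K)) :
    opBC x S = (DDx x (show Submodule R (Module.End R K) from S) : Submodule R' (Module.End R' (BC x K))) := by
  apply le_antisymm
  · rintro _ ⟨_, ⟨z, rfl⟩, rfl⟩
    induction z using BC.ind with
    | h0 => rw [map_zero, map_zero]; exact zero_mem _
    | h1 r m =>
      rw [LinearMap.map_smul, LinearMap.map_smul, BC.map_bc, BC.emb_bc]
      exact Submodule.smul_mem _ _ (map_mem_DDx x m.2)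
    | h2 a b ha hb => rw [map_add, map_add]; exact add_mem ha hb
  · refine Submodule.span_le.mpr ?_
    rintro _ ⟨L, hL, rfl⟩
    exact ⟨BC.map x S.subtype (bc x ⟨L, hL⟩), ⟨_, rfl⟩, by rw [BC.map_bc, BC.emb_bc]; rfl⟩

end Op

variable {R : Type u} [CommRing R]

theorem OpCpx.DDx_eq (X : OpCpx.{u} R) {R' : Type u} [CommRing R'] (x : R →+* R') (j : ℕ) :
    X.DDx x j = (DDx x (X.DD j) : Submodule R' (Module.End R' (BC x X.K))) := opBC_eq x (X.DD j)

/-- the nilpotent filtration `F r = DD_x (r + 1)` -/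
def nfX (X : OpCpx.{u} R) {R' : Type u} [CommRing R'] (x : R →+* R') : NFil (Module.End R' (BC x X.K)) where
  F r := (X.DDx x (r + 1)).toAddSubgroup
  anti r L h := by
    have h1 : L ∈ X.DDx x (r + 1 + 1) := h
    show L ∈ X.DDx x (r + 1)
    rw [OpCpx.DDx_eq] at h1 ⊢
    exact DDx_mono x (X.DD_succ (r + 1)) h1
  mul i j L M hL hM := by
    have h1 : L ∈ X.DDx x (i + 1) := hL
    have h2 : M ∈ X.DDx x (j + 1) := hM
    show L * M ∈ X.DDx x (i + j + 1 + 1)
    rw [OpCpx.DDx_eq] at h1 h2 ⊢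
    refine DDx_mul x (fun L hL M hM => ?_) h1 h2
    have := X.DD_mul (i + 1) (j + 1) L hL M hM
    rwa [show i + 1 + (j + 1) = i + j + 1 + 1 by omega] at this
  k := X.k
  top L hL := by
    have h1 : L ∈ X.DDx x (X.k + 1) := hL
    rw [OpCpx.DDx_eq, X.DD_last] at h1
    exact DDx_bot x h1

theorem mem_nfX (X : OpCpx.{u} R) {R' : Type u} [CommRing R'] (x : R →+* R') {r : ℕ}
    {L : Module.End R' (BC x X.K)} : L ∈ (nfX X x).F r ↔ L ∈ X.DDx x (r + 1) := Iff.rfl

theorem pull_congr {R' R'' : Type u} [CommRing R'] [CommRing R''] {M N : Type u} [AddCommGroup M] [Module R M]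
    [AddCommGroup N] [Module R N] {x y : R →+* R'} {x' y' : R →+* R''} {f g : R' →+* R''} (h : f = g)
    (hx : f.comp x = x') (hy : f.comp y = y') (hx' : g.comp x = x') (hy' : g.comp y = y')
    (ψ : BC x M →ₗ[R'] BC y N) : BC.pull f hx hy ψ = BC.pull g hx' hy' ψ := by
  subst h
  rfl

/-- arrows over the edges of the levels -/
structure LvArr (P : PGpd.{u} R) (Lv : LvRing.{u} R) (Hg : Type v) [Group Hg] where
  arr : ∀ (n : ℕ) (i j : Fin (n + 1)), Hg → P.Hom (Lv.x n i) (Lv.x n j)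
  arr_one : ∀ (n : ℕ) (i : Fin (n + 1)), arr n i i 1 = P.id _
  arr_comp : ∀ (n : ℕ) (i j l : Fin (n + 1)) (h h' : Hg),
    P.comp (arr n i j h) (arr n j l h') = arr n i l (h' * h)
  arr_pull : ∀ {m n : ℕ} (a : Fin (m + 1) → Fin (n + 1)) (i j : Fin (m + 1)) (h : Hg),
    P.pull (Lv.r a) (Lv.r_x a i) (Lv.r_x a j) (arr m i j h) = arr n (a i) (a j) h

variable {P : PGpd.{u} R} {Lv : LvRing.{u} R} {Hg : Type v} [Group Hg]

theorem LvArr.arr_inv (W : LvArr P Lv Hg) (n : ℕ) (i j : Fin (n + 1)) (h : Hg) :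
    P.inv (W.arr n i j h) = W.arr n j i h⁻¹ := by
  have h1 := W.arr_comp n i j i h h⁻¹
  rw [inv_mul_cancel, W.arr_one] at h1
  calc P.inv (W.arr n i j h) = P.comp (P.inv (W.arr n i j h)) (P.id _) := (P.comp_id _).symm
    _ = P.comp (P.inv (W.arr n i j h)) (P.comp (W.arr n i j h) (W.arr n j i h⁻¹)) := by rw [h1]
    _ = W.arr n j i h⁻¹ := by rw [← P.comp_assoc, P.inv_comp, P.id_comp]

/-- the operators and the good isomorphisms of an `AlgPkg` -/
def opSys (X : AlgPkg P) (W : LvArr P Lv Hg) : OpSys.{u, v} Hg where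
  Rn := Lv.Rn
  K n i := BC (Lv.x n i) X.K
  bc a _ _ ψ := BC.pull (Lv.r a) (Lv.r_x a _) (Lv.r_x a _) ψ
  bc_add a _ _ L M := BC.pull_add _ _ L M
  bc_comp a _ _ _ M L := BC.pull_comp _ _ _ M L
  bc_id a _ := BC.pull_id _
  bc_bc b a i j L := by
    have h1 := Lv.r_r b a
    rw [BC.pull_pull (Lv.r_x a i) (Lv.r_x a j) (Lv.r_x b (a i)) (Lv.r_x b (a j))
      (by rw [h1]; exact Lv.r_x _ i) (by rw [h1]; exact Lv.r_x _ j) L]
    exact pull_congr h1 _ _ _ _ L
  N n i := nfX X.toOpCpx (Lv.x n i)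
  bc_N {m n} a i r L hL := by
    have h1 : L ∈ X.DDx (Lv.x m i) (r + 1) := hL
    show (BC.pull (Lv.r a) (Lv.r_x a i) (Lv.r_x a i) L : Module.End (Lv.Rn n) (BC (Lv.x n (a i)) X.K)) ∈
      X.DDx (Lv.x n (a i)) (r + 1)
    rw [OpCpx.DDx_eq] at h1 ⊢
    exact pull_mem_DDx (Lv.r a) (Lv.r_x a i) h1
  Good n i j h := X.L (W.arr n i j h)
  good_ne n i j h := X.L_ne _ (Lv.flat n i) (Lv.flat n j)
  good_trans {n i j l h h' s t} hs ht := by
    have := X.L_comp _ _ (Lv.flat n i) (Lv.flat n j) (Lv.flat n l) s hs t ht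
    rwa [W.arr_comp] at this
  good_symm {n i j h s} hs := by
    have := X.L_inv _ (Lv.flat n i) (Lv.flat n j) s hs
    rwa [W.arr_inv] at this
  good_bc {m n} a i j h s hs := by
    have := X.L_pull (Lv.r a) (Lv.r_x a i) (Lv.r_x a j) _ (Lv.flat m i) (Lv.flat m j) (Lv.flat n (a i))
      (Lv.flat n (a j)) s hs
    rw [W.arr_pull] at this
    exact ⟨_, this, rfl⟩
  good_conj {n i j h s} hs r L hL := by
    have h1 := X.L_conj _ (Lv.flat n i) (Lv.flat n j) s hs (r + 1) (by omega) L hL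
    have h2 : s.conj L = s.toLinearMap ∘ₗ L ∘ₗ s.symm.toLinearMap := by ext v; simp [LinearEquiv.conj_apply]
    rw [h2]
    exact h1
  good_loop {n i s} hs := by
    rw [W.arr_one] at hs
    obtain ⟨T, hT, h1⟩ := (X.L_one _ s (Lv.flat n i)).mp hs
    have h2 : (s : Module.End (Lv.Rn n) (BC (Lv.x n i) X.K)) - 1 = T := by
      refine LinearMap.ext fun v => ?_
      show s v - v = T v
      rw [h1, add_sub_cancel_left]
    rw [h2]
    exact hT

/-- **AD1**: the transport system of an `AlgPkg` -/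
noncomputable def ts (X : AlgPkg P) (W : LvArr P Lv Hg) : TS.{max u v, v, u} Hg := (opSys X W).toTS

theorem ts_top (X : AlgPkg P) (W : LvArr P Lv Hg) (n : ℕ) (i : Fin (n + 1)) (x : (ts X W).L n i i)
    (hx : x ∈ (ts X W).F n i (X.k + 1)) : x = (ts X W).one :=
  (opSys X W).toTS_top (k := X.k) (fun n i L hL => (nfX X.toOpCpx (Lv.x n i)).top L hL) n i x hx

/-- a lift in the sense of `OpSys` is a lift in the sense of the package -/
theorem isLift_iff (X : AlgPkg P) (W : LvArr P Lv Hg) {n : ℕ} {i j : Fin (n + 1)} (h : Hg)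
    (ψ : BC (Lv.x n i) X.K ≃ₗ[Lv.Rn n] BC (Lv.x n j) X.K) :
    (opSys X W).IsLift h ψ ↔ ψ ∈ X.L (W.arr n i j h) := by
  constructor
  · rintro ⟨s', hs, h1⟩
    obtain ⟨s, rfl⟩ : ∃ s : BC (Lv.x n i) X.K ≃ₗ[Lv.Rn n] BC (Lv.x n j) X.K, s = s' := ⟨s', rfl⟩
    have h2 : ψ.trans s.symm ∈ X.L (P.id (Lv.x n i)) := by
      rw [X.L_one _ _ (Lv.flat n i)]
      refine ⟨_, h1, fun v => ?_⟩
      show (ψ.trans s.symm) v = v + ((ψ.trans s.symm) v - v)
      rw [add_sub_cancel]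
    have h3 := X.L_comp _ _ (Lv.flat n i) (Lv.flat n i) (Lv.flat n j) _ h2 s hs
    rw [P.id_comp] at h3
    have h4 : (ψ.trans s.symm).trans s = ψ := by
      ext v
      simp
    rwa [h4] at h3
  · exact fun h => OpSys.isLift_of_good (O := opSys X W) h

end Groth.Agent.ResProp.EF.K363
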