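import Groth.Agent.ResProp.EF.K363.AD1

/-!
# AD1, output: gluing, equivariant lifts and invariant operators of an `AlgPkg`, in terms of `BC.pullE`
-/

set_option autoImplicit false

namespace Groth.Agent.ResProp.EF.K363

open Groth.Agent.ResProp.EF.K980 Groth.Agent.ResProp.EF.K734

universe u v

variable {R : Type u} [CommRing R] {P : PGpd.{u} R} {Lv : LvRing.{u} R} {Hg : Type v} [Group Hg]

/-- the cocycle identity for an isomorphism between the two base changes over level one -/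
def IsCocy (Lv : LvRing.{u} R) {M : Type u} [AddCommGroup M] [Module R M]
    (ψ : BC (Lv.x 1 0) M ≃ₗ[Lv.Rn 1] BC (Lv.x 1 1) M) : Prop :=
  (BC.pullE (Lv.r ![0, 1]) (show _ = Lv.x 2 0 from Lv.r_x ![0, 1] 0) (show _ = Lv.x 2 1 from Lv.r_x ![0, 1] 1) ψ).trans
    (BC.pullE (Lv.r ![1, 2]) (show _ = Lv.x 2 1 from Lv.r_x ![1, 2] 0) (show _ = Lv.x 2 2 from Lv.r_x ![1, 2] 1) ψ) =
    BC.pullE (Lv.r ![0, 2]) (show _ = Lv.x 2 0 from Lv.r_x ![0, 2] 0) (show _ = Lv.x 2 2 from Lv.r_x ![0, 2] 1) ψ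

/-- `g` at level zero commutes with `ψ` -/
def Commutes (Lv : LvRing.{u} R) {M : Type u} [AddCommGroup M] [Module R M]
    (ψ : BC (Lv.x 1 0) M ≃ₗ[Lv.Rn 1] BC (Lv.x 1 1) M) (g : BC (Lv.x 0 0) M ≃ₗ[Lv.Rn 0] BC (Lv.x 0 0) M) : Prop :=
  ψ.trans (BC.pullE (Lv.r ![1]) (show _ = Lv.x 1 1 from Lv.r_x (m := 0) ![1] 0)
      (show _ = Lv.x 1 1 from Lv.r_x (m := 0) ![1] 0) g) =
    (BC.pullE (Lv.r ![0]) (show _ = Lv.x 1 0 from Lv.r_x (m := 0) ![0] 0)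
      (show _ = Lv.x 1 0 from Lv.r_x (m := 0) ![0] 0) g).trans ψ

/-- `opSys`'s base change of isomorphisms is `BC.pullE` -/
theorem bcE_eq (X : AlgPkg P) (W : LvArr P Lv Hg) {m n : ℕ} (a : Fin (m + 1) → Fin (n + 1)) {i j : Fin (m + 1)}
    (ψ : BC (Lv.x m i) X.K ≃ₗ[Lv.Rn m] BC (Lv.x m j) X.K) :
    (OpSys.bcE (O := opSys X W) a ψ : BC (Lv.x n (a i)) X.K ≃ₗ[Lv.Rn n] BC (Lv.x n (a j)) X.K) =
      BC.pullE (Lv.r a) (Lv.r_x a i) (Lv.r_x a j) ψ := rfl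

/-- **Gluing.** -/
theorem glueP (X : AlgPkg P) (W : LvArr P Lv Hg) (h2 : ∀ q, 1 ≤ q → q ≤ X.k → (ts X W).H2 q) :
    ∃ ψ ∈ X.L (W.arr 1 0 1 1), IsCocy Lv ψ := by
  have hex : ∃ ψ : (ts X W).L 1 0 1, (ts X W).deg ψ = 1 := by
    obtain ⟨s, hs⟩ := X.L_ne (W.arr 1 0 1 1) (Lv.flat 1 0) (Lv.flat 1 1)
    exact ⟨⟨(1, s), (isLift_iff X W 1 s).mpr hs⟩, rfl⟩
  obtain ⟨ψ, hψ, hc⟩ := TS.glue X.k h2 (fun x hx => ts_top X W 2 0 x hx) hex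
  obtain ⟨⟨h, s⟩, hs⟩ := ψ
  obtain rfl : h = 1 := hψ
  refine ⟨s, (isLift_iff X W 1 s).mp hs, ?_⟩
  have h3 := congrArg (fun z : (ts X W).L 2 0 2 => z.1.2) hc
  exact h3

/-- **Equivariant lifts.** -/
theorem liftP (X : AlgPkg P) (W : LvArr P Lv Hg) (h1 : ∀ q, 1 ≤ q → q ≤ X.k → (ts X W).H1 q)
    {ψ : BC (Lv.x 1 0) X.K ≃ₗ[Lv.Rn 1] BC (Lv.x 1 1) X.K} (hψ : ψ ∈ X.L (W.arr 1 0 1 1)) (hc : IsCocy Lv ψ) (h : Hg) :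
    ∃ g ∈ X.L (W.arr 0 0 0 h), Commutes Lv ψ g := by
  obtain ⟨s, hs⟩ := X.L_ne (W.arr 0 0 0 h) (Lv.flat 0 0) (Lv.flat 0 0)
  let ψ' : (ts X W).L 1 0 1 := ⟨(1, ψ), (isLift_iff X W 1 ψ).mpr hψ⟩
  have hc' : (ts X W).mul (show (ts X W).L 2 1 2 from (ts X W).P ![1, 2] ψ')
      (show (ts X W).L 2 0 1 from (ts X W).P ![0, 1] ψ') = (show (ts X W).L 2 0 2 from (ts X W).P ![0, 2] ψ') :=
    OpSys.Ar.ext' (one_mul _) hc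
  obtain ⟨g, hg, hcg⟩ := TS.lift X.k h1 (fun x hx => ts_top X W 1 0 x hx) (ψ := ψ') rfl hc'
    ⟨(h, s), (isLift_iff X W h s).mpr hs⟩
  obtain ⟨⟨h', g⟩, hg'⟩ := g
  obtain rfl : h' = h := hg
  refine ⟨g, (isLift_iff X W h' g).mp hg', ?_⟩
  exact congrArg (fun z : (ts X W).L 1 0 1 => z.1.2) hcg

end Groth.Agent.ResProp.EF.K363
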