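import Mathlib.Algebra.Group.Basic
import Mathlib.Algebra.Group.Subgroup.Basic
import Mathlib.Algebra.Module.Basic
import Mathlib.Data.Fin.VecNotation
import Mathlib.Tactic

/-!
# Gluing in a filtered transport groupoid (980, 3.3 / helper60's variant (2))

`TS Hg` : for each level `n` (the `n`-th stage of the nerve of a groupoid) a groupoid with objects the vertices `0, .., n`,
pull-backs along all maps of vertices, a degree with values in a group `Hg`, a filtration of the vertex groups of degree `1`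
with abelian graded pieces `M q n`.
-/

set_option autoImplicit false

namespace Groth.Agent.ResProp.EF.K363

universe u v w

/-- A filtered transport system on the nerve of a groupoid. -/
structure TS (Hg : Type v) [Group Hg] where
  /-- arrows between the vertices at level `n` -/
  L : ∀ n : ℕ, Fin (n + 1) → Fin (n + 1) → Type u
  mul : ∀ {n : ℕ} {i j k : Fin (n + 1)}, L n j k → L n i j → L n i k
  one : ∀ {n : ℕ} {i : Fin (n + 1)}, L n i i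
  inv : ∀ {n : ℕ} {i j : Fin (n + 1)}, L n i j → L n j i
  mul_assoc : ∀ {n : ℕ} {i j k l : Fin (n + 1)} (z : L n k l) (y : L n j k) (x : L n i j),
    mul (mul z y) x = mul z (mul y x)
  one_mul : ∀ {n : ℕ} {i j : Fin (n + 1)} (x : L n i j), mul one x = x
  mul_one : ∀ {n : ℕ} {i j : Fin (n + 1)} (x : L n i j), mul x one = x
  inv_mul : ∀ {n : ℕ} {i j : Fin (n + 1)} (x : L n i j), mul (inv x) x = one
  mul_inv : ∀ {n : ℕ} {i j : Fin (n + 1)} (x : L n i j), mul x (inv x) = one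
  /-- pull-back along a map of vertices -/
  P : ∀ {m n : ℕ} (φ : Fin (m + 1) → Fin (n + 1)) {i j : Fin (m + 1)}, L m i j → L n (φ i) (φ j)
  P_mul : ∀ {m n : ℕ} (φ : Fin (m + 1) → Fin (n + 1)) {i j k : Fin (m + 1)} (y : L m j k) (x : L m i j),
    P φ (mul y x) = mul (P φ y) (P φ x)
  P_comp : ∀ {l m n : ℕ} (χ : Fin (m + 1) → Fin (n + 1)) (φ : Fin (l + 1) → Fin (m + 1)) {i j : Fin (l + 1)}
    (x : L l i j), P χ (P φ x) = P (fun r => χ (φ r)) x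
  /-- the degree -/
  deg : ∀ {n : ℕ} {i j : Fin (n + 1)}, L n i j → Hg
  deg_mul : ∀ {n : ℕ} {i j k : Fin (n + 1)} (y : L n j k) (x : L n i j), deg (mul y x) = deg y * deg x
  deg_P : ∀ {m n : ℕ} (φ : Fin (m + 1) → Fin (n + 1)) {i j : Fin (m + 1)} (x : L m i j), deg (P φ x) = deg x
  /-- the filtration of the vertex groups -/
  F : ∀ (n : ℕ) (i : Fin (n + 1)), ℕ → Set (L n i i)
  F_one : ∀ (n : ℕ) (i : Fin (n + 1)) (x : L n i i), x ∈ F n i 1 ↔ deg x = 1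
  F_deg : ∀ (n : ℕ) (i : Fin (n + 1)) (q : ℕ) (x : L n i i), x ∈ F n i q → deg x = 1
  F_mul : ∀ {n : ℕ} {i : Fin (n + 1)} {q : ℕ} {x y : L n i i}, 1 ≤ q → x ∈ F n i q → y ∈ F n i q → mul x y ∈ F n i q
  F_inv : ∀ {n : ℕ} {i : Fin (n + 1)} {q : ℕ} {x : L n i i}, 1 ≤ q → x ∈ F n i q → inv x ∈ F n i q
  F_conj : ∀ {n : ℕ} {i j : Fin (n + 1)} {q : ℕ} (g : L n i j) {x : L n i i}, 1 ≤ q → x ∈ F n i q →
    mul (mul g x) (inv g) ∈ F n j q
  F_P : ∀ {m n : ℕ} (φ : Fin (m + 1) → Fin (n + 1)) {i : Fin (m + 1)} {q : ℕ} {x : L m i i}, 1 ≤ q → x ∈ F m i q →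
    P φ x ∈ F n (φ i) q
  /-- the graded pieces: `M q n` -/
  M : ℕ → ℕ → Type w
  addM : ∀ q n, AddCommGroup (M q n)
  act : ∀ (q n : ℕ), Hg → M q n → M q n
  act_one : ∀ (q n : ℕ) (x : M q n), act q n 1 x = x
  Mp : ∀ (q : ℕ) {m n : ℕ} (_ : Fin (m + 1) → Fin (n + 1)), M q m → M q n
  Mp_add : ∀ (q : ℕ) {m n : ℕ} (φ : Fin (m + 1) → Fin (n + 1)) (x y : M q m),
    Mp q φ (letI := addM q m; x + y) = (letI := addM q n; Mp q φ x + Mp q φ y)
  /-- the class in the graded piece -/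
  lam : ∀ (q : ℕ) {n : ℕ} {i : Fin (n + 1)}, L n i i → M q n
  lam_mul : ∀ {q n : ℕ} {i : Fin (n + 1)} {x y : L n i i}, 1 ≤ q → x ∈ F n i q → y ∈ F n i q →
    lam q (mul x y) = (letI := addM q n; lam q x + lam q y)
  lam_conj : ∀ {q n : ℕ} {i j : Fin (n + 1)} (g : L n i j) {x : L n i i}, 1 ≤ q → x ∈ F n i q →
    lam q (mul (mul g x) (inv g)) = act q n (deg g) (lam q x)
  lam_P : ∀ {q m n : ℕ} (φ : Fin (m + 1) → Fin (n + 1)) {i : Fin (m + 1)} {x : L m i i}, 1 ≤ q → x ∈ F m i q →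
    lam q (P φ x) = Mp q φ (lam q x)
  lam_ker : ∀ {q n : ℕ} {i : Fin (n + 1)} {x : L n i i}, 1 ≤ q → x ∈ F n i q →
    lam q x = (letI := addM q n; 0) → x ∈ F n i (q + 1)
  lam_surj : ∀ {q n : ℕ} (i : Fin (n + 1)), 1 ≤ q → ∀ b : M q n, ∃ a ∈ F n i q, lam q a = b
  F_anti : ∀ {n : ℕ} {i : Fin (n + 1)} {q : ℕ} {x : L n i i}, 1 ≤ q → x ∈ F n i (q + 1) → x ∈ F n i q
  lam_zero : ∀ {q n : ℕ} {i : Fin (n + 1)} {x : L n i i}, 1 ≤ q → x ∈ F n i (q + 1) →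
    lam q x = (letI := addM q n; 0)

attribute [instance] TS.addM

namespace TS

variable {Hg : Type v} [Group Hg] (T : TS.{u, v, w} Hg)

/-- the second cohomology of the graded piece vanishes -/
def H2 (q : ℕ) : Prop := ∀ z : T.M q 2,
  T.Mp q ![1, 2, 3] z + T.Mp q ![0, 1, 3] z = T.Mp q (n := 3) ![0, 2, 3] z + T.Mp q ![0, 1, 2] z →
    ∃ b : T.M q 1, T.Mp q ![1, 2] b + T.Mp q ![0, 1] b = T.Mp q (n := 2) ![0, 2] b + z

/-- the first cohomology of the graded piece vanishes -/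
def H1 (q : ℕ) : Prop := ∀ z : T.M q 1,
  T.Mp q ![1, 2] z + T.Mp q ![0, 1] z = T.Mp q (n := 2) ![0, 2] z →
    ∃ b : T.M q 0, T.Mp q ![1] b = T.Mp q (n := 1) ![0] b + z

variable {T}

theorem Mp_zero (q : ℕ) {m n : ℕ} (φ : Fin (m + 1) → Fin (n + 1)) : T.Mp q φ (0 : T.M q m) = 0 := by
  have := T.Mp_add q φ 0 0
  rw [_root_.add_zero] at this
  exact (_root_.add_left_cancel (this.symm.trans (_root_.add_zero _).symm))

theorem Mp_neg (q : ℕ) {m n : ℕ} (φ : Fin (m + 1) → Fin (n + 1)) (x : T.M q m) : T.Mp q φ (-x) = -T.Mp q φ x := by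
  have := T.Mp_add q φ (-x) x
  rw [neg_add_cancel, Mp_zero] at this
  exact eq_neg_of_add_eq_zero_left this.symm

theorem one_inv_one {n : ℕ} {i : Fin (n + 1)} : T.inv (T.one (n := n) (i := i)) = T.one := by
  have := T.inv_mul (T.one (n := n) (i := i))
  rwa [T.mul_one] at this

theorem inv_mul_cancel_left {n : ℕ} {i j k : Fin (n + 1)} (g : T.L n j k) (x : T.L n i j) :
    T.mul (T.inv g) (T.mul g x) = x := by
  rw [← T.mul_assoc, T.inv_mul, T.one_mul]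

theorem mul_inv_cancel_left {n : ℕ} {i j k : Fin (n + 1)} (g : T.L n k j) (x : T.L n i j) :
    T.mul g (T.mul (T.inv g) x) = x := by
  rw [← T.mul_assoc, T.mul_inv, T.one_mul]

theorem mul_inv_cancel_right {n : ℕ} {i j k : Fin (n + 1)} (x : T.L n i k) (g : T.L n j i) :
    T.mul (T.mul x g) (T.inv g) = x := by
  rw [T.mul_assoc, T.mul_inv, T.mul_one]

theorem inv_mul_cancel_right {n : ℕ} {i j k : Fin (n + 1)} (x : T.L n i k) (g : T.L n i j) :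
    T.mul (T.mul x (T.inv g)) g = x := by
  rw [T.mul_assoc, T.inv_mul, T.mul_one]

theorem mul_left_cancel {n : ℕ} {i j k : Fin (n + 1)} (g : T.L n j k) {x y : T.L n i j}
    (h : T.mul g x = T.mul g y) : x = y := by
  rw [← inv_mul_cancel_left g x, h, inv_mul_cancel_left]

theorem mul_right_cancel {n : ℕ} {i j k : Fin (n + 1)} (g : T.L n i j) {x y : T.L n j k}
    (h : T.mul x g = T.mul y g) : x = y := by
  rw [← mul_inv_cancel_right x g, h, mul_inv_cancel_right]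

theorem inv_inv {n : ℕ} {i j : Fin (n + 1)} (x : T.L n i j) : T.inv (T.inv x) = x := by
  apply mul_right_cancel (T.inv x)
  rw [T.inv_mul, T.mul_inv]

theorem inv_mul_rev {n : ℕ} {i j k : Fin (n + 1)} (y : T.L n j k) (x : T.L n i j) :
    T.inv (T.mul y x) = T.mul (T.inv x) (T.inv y) := by
  apply mul_right_cancel (T.mul y x)
  rw [T.inv_mul, T.mul_assoc, inv_mul_cancel_left, T.inv_mul]

theorem deg_one {n : ℕ} {i : Fin (n + 1)} : T.deg (T.one (n := n) (i := i)) = 1 := by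
  have := T.deg_mul (T.one (n := n) (i := i)) T.one
  rw [T.mul_one] at this
  exact (_root_.mul_left_cancel (this.symm.trans (_root_.mul_one _).symm))

theorem deg_inv {n : ℕ} {i j : Fin (n + 1)} (x : T.L n i j) : T.deg (T.inv x) = (T.deg x)⁻¹ := by
  have := T.deg_mul (T.inv x) x
  rw [T.inv_mul, deg_one] at this
  exact eq_inv_of_mul_eq_one_left this.symm

theorem P_one {m n : ℕ} (φ : Fin (m + 1) → Fin (n + 1)) {i : Fin (m + 1)} :
    T.P φ (T.one (n := m) (i := i)) = T.one := by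
  have := T.P_mul φ (T.one (n := m) (i := i)) T.one
  rw [T.mul_one] at this
  apply mul_left_cancel (T.P φ (T.one (n := m) (i := i)))
  rw [← this, T.mul_one]

theorem P_inv {m n : ℕ} (φ : Fin (m + 1) → Fin (n + 1)) {i j : Fin (m + 1)} (x : T.L m i j) :
    T.P φ (T.inv x) = T.inv (T.P φ x) := by
  apply mul_right_cancel (T.P φ x)
  rw [← T.P_mul, T.inv_mul, T.inv_mul, P_one]

/-- conjugation by the inverse of an arrow of degree one -/
theorem conj_inv {q n : ℕ} {i j : Fin (n + 1)} (g : T.L n i j) (hg : T.deg g = 1) {x : T.L n j j} (hq : 1 ≤ q)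
    (hx : x ∈ T.F n j q) : T.mul (T.mul (T.inv g) x) g ∈ T.F n i q ∧
      T.lam q (T.mul (T.mul (T.inv g) x) g) = T.lam q x := by
  have h1 := T.F_conj (T.inv g) hq hx
  have h2 := T.lam_conj (T.inv g) hq hx
  rw [inv_inv] at h1 h2
  refine ⟨h1, ?_⟩
  rw [h2, deg_inv, hg, inv_one, T.act_one]

theorem lam_one {q n : ℕ} {i : Fin (n + 1)} (hq : 1 ≤ q) (h : T.one ∈ T.F n i q) :
    T.lam q (T.one (n := n) (i := i)) = 0 := by
  have := T.lam_mul hq h h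
  rw [T.mul_one] at this
  exact (_root_.add_left_cancel (this.symm.trans (_root_.add_zero _).symm))

theorem lam_inv {q n : ℕ} {i : Fin (n + 1)} {x : T.L n i i} (hq : 1 ≤ q) (hx : x ∈ T.F n i q) :
    T.lam q (T.inv x) = - T.lam q x := by
  have h1 := T.lam_mul hq (T.F_inv hq hx) hx
  have h2 : T.one ∈ T.F n i q := by
    have := T.F_mul hq (T.F_inv hq hx) hx
    rwa [T.inv_mul] at this
  rw [T.inv_mul, lam_one hq h2] at h1
  exact eq_neg_of_add_eq_zero_left h1.symm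

/-- the defect of an arrow `0 → 1` at level one -/
def defect (ψ : T.L 1 0 1) : T.L 2 0 0 :=
  T.mul (T.inv (show T.L 2 0 2 from T.P ![0, 2] ψ))
    (T.mul (show T.L 2 1 2 from T.P ![1, 2] ψ) (show T.L 2 0 1 from T.P ![0, 1] ψ))

theorem deg_defect {ψ : T.L 1 0 1} (hψ : T.deg ψ = 1) : T.deg (defect ψ) = 1 := by
  unfold defect
  rw [T.deg_mul, T.deg_mul, deg_inv]
  have h1 : T.deg (show T.L 2 0 2 from T.P ![0, 2] ψ) = 1 := (T.deg_P _ ψ).trans hψ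
  have h2 : T.deg (show T.L 2 1 2 from T.P ![1, 2] ψ) = 1 := (T.deg_P _ ψ).trans hψ
  have h3 : T.deg (show T.L 2 0 1 from T.P ![0, 1] ψ) = 1 := (T.deg_P _ ψ).trans hψ
  rw [h1, h2, h3, inv_one, _root_.mul_one, _root_.mul_one]

theorem P_P {l m n : ℕ} (χ : Fin (m + 1) → Fin (n + 1)) (φ : Fin (l + 1) → Fin (m + 1))
    (ω : Fin (l + 1) → Fin (n + 1)) (h : ∀ r, χ (φ r) = ω r) {i j : Fin (l + 1)} (x : T.L l i j) :
    HEq (T.P χ (T.P φ x)) (T.P ω x) := by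
  obtain rfl : ω = fun r => χ (φ r) := (funext h).symm
  rw [T.P_comp]

theorem defect_pull {n : ℕ} (χ : Fin 3 → Fin (n + 1)) (ψ : T.L 1 0 1) (a01 : T.L n (χ 0) (χ 1))
    (a02 : T.L n (χ 0) (χ 2)) (a12 : T.L n (χ 1) (χ 2)) (h01 : a01 = T.P ![χ 0, χ 1] ψ) (h02 : a02 = T.P ![χ 0, χ 2] ψ)
    (h12 : a12 = T.P ![χ 1, χ 2] ψ) :
    T.P χ (defect ψ) = T.mul (T.inv a02) (T.mul a12 a01) := by
  subst h01 h02 h12
  have e01 : (show T.L n (χ 0) (χ 1) from T.P χ (show T.L 2 0 1 from T.P ![0, 1] ψ)) = T.P ![χ 0, χ 1] ψ :=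
    eq_of_heq (P_P (T := T) χ ![0, 1] ![χ 0, χ 1] (fun r => by fin_cases r <;> rfl) ψ)
  have e02 : (show T.L n (χ 0) (χ 2) from T.P χ (show T.L 2 0 2 from T.P ![0, 2] ψ)) = T.P ![χ 0, χ 2] ψ :=
    eq_of_heq (P_P (T := T) χ ![0, 2] ![χ 0, χ 2] (fun r => by fin_cases r <;> rfl) ψ)
  have e12 : (show T.L n (χ 1) (χ 2) from T.P χ (show T.L 2 1 2 from T.P ![1, 2] ψ)) = T.P ![χ 1, χ 2] ψ :=
    eq_of_heq (P_P (T := T) χ ![1, 2] ![χ 1, χ 2] (fun r => by fin_cases r <;> rfl) ψ)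
  show T.P χ (T.mul (T.inv (show T.L 2 0 2 from T.P ![0, 2] ψ))
      (T.mul (show T.L 2 1 2 from T.P ![1, 2] ψ) (show T.L 2 0 1 from T.P ![0, 1] ψ))) = _
  rw [T.P_mul, T.P_mul, P_inv]
  exact congrArg₂ T.mul (congrArg T.inv e02) (congrArg₂ T.mul e12 e01)

/-- the defect is a `2`-cocycle in the graded piece -/
theorem defect_cocycle {q : ℕ} (hq : 1 ≤ q) {ψ : T.L 1 0 1} (hψ : T.deg ψ = 1) (hd : defect ψ ∈ T.F 2 0 q) :
    T.Mp q ![1, 2, 3] (T.lam q (defect ψ)) + T.Mp q ![0, 1, 3] (T.lam q (defect ψ)) =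
      T.Mp q (n := 3) ![0, 2, 3] (T.lam q (defect ψ)) + T.Mp q ![0, 1, 2] (T.lam q (defect ψ)) := by
  -- the six arrows at level three
  let p01 : T.L 3 0 1 := T.P ![0, 1] ψ
  let p02 : T.L 3 0 2 := T.P ![0, 2] ψ
  let p03 : T.L 3 0 3 := T.P ![0, 3] ψ
  let p12 : T.L 3 1 2 := T.P ![1, 2] ψ
  let p13 : T.L 3 1 3 := T.P ![1, 3] ψ
  let p23 : T.L 3 2 3 := T.P ![2, 3] ψ
  have e012 : (show T.L 3 0 0 from T.P ![0, 1, 2] (defect ψ)) = T.mul (T.inv p02) (T.mul p12 p01) :=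
    defect_pull ![0, 1, 2] ψ p01 p02 p12 rfl rfl rfl
  have e013 : (show T.L 3 0 0 from T.P ![0, 1, 3] (defect ψ)) = T.mul (T.inv p03) (T.mul p13 p01) :=
    defect_pull ![0, 1, 3] ψ p01 p03 p13 rfl rfl rfl
  have e023 : (show T.L 3 0 0 from T.P ![0, 2, 3] (defect ψ)) = T.mul (T.inv p03) (T.mul p23 p02) :=
    defect_pull ![0, 2, 3] ψ p02 p03 p23 rfl rfl rfl
  have e123 : (show T.L 3 1 1 from T.P ![1, 2, 3] (defect ψ)) = T.mul (T.inv p13) (T.mul p23 p12) :=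
    defect_pull ![1, 2, 3] ψ p12 p13 p23 rfl rfl rfl
  generalize hc012 : (show T.L 3 0 0 from T.P ![0, 1, 2] (defect ψ)) = c012 at e012
  generalize hc013 : (show T.L 3 0 0 from T.P ![0, 1, 3] (defect ψ)) = c013 at e013
  generalize hc023 : (show T.L 3 0 0 from T.P ![0, 2, 3] (defect ψ)) = c023 at e023
  generalize hc123 : (show T.L 3 1 1 from T.P ![1, 2, 3] (defect ψ)) = c123 at e123
  have key : T.mul c023 c012 = T.mul c013 (T.mul (T.mul (T.inv p01) c123) p01) := by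
    rw [e023, e012, e013, e123]
    simp only [T.mul_assoc, mul_inv_cancel_left]
  have F012 : c012 ∈ T.F 3 0 q := hc012 ▸ T.F_P ![0, 1, 2] hq hd
  have F013 : c013 ∈ T.F 3 0 q := hc013 ▸ T.F_P ![0, 1, 3] hq hd
  have F023 : c023 ∈ T.F 3 0 q := hc023 ▸ T.F_P ![0, 2, 3] hq hd
  have F123 : c123 ∈ T.F 3 1 q := hc123 ▸ T.F_P ![1, 2, 3] hq hd
  have l012 : T.lam q c012 = T.Mp q ![0, 1, 2] (T.lam q (defect ψ)) := hc012 ▸ T.lam_P ![0, 1, 2] hq hd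
  have l013 : T.lam q c013 = T.Mp q ![0, 1, 3] (T.lam q (defect ψ)) := hc013 ▸ T.lam_P ![0, 1, 3] hq hd
  have l023 : T.lam q c023 = T.Mp q ![0, 2, 3] (T.lam q (defect ψ)) := hc023 ▸ T.lam_P ![0, 2, 3] hq hd
  have l123 : T.lam q c123 = T.Mp q ![1, 2, 3] (T.lam q (defect ψ)) := hc123 ▸ T.lam_P ![1, 2, 3] hq hd
  have hp01 : T.deg p01 = 1 := (T.deg_P ![0, 1] ψ).trans hψ
  obtain ⟨h1, h2⟩ := conj_inv p01 hp01 hq F123
  have h3 := congrArg (T.lam q) key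
  rw [T.lam_mul hq F023 F012, T.lam_mul hq F013 h1, h2] at h3
  rw [← l012, ← l013, ← l023, ← l123, h3, add_comm]

/-- one step of the gluing -/
theorem step {q : ℕ} (hq : 1 ≤ q) (h2 : T.H2 q) {ψ : T.L 1 0 1} (hψ : T.deg ψ = 1) (hd : defect ψ ∈ T.F 2 0 q) :
    ∃ ψ' : T.L 1 0 1, T.deg ψ' = 1 ∧ defect ψ' ∈ T.F 2 0 (q + 1) := by
  obtain ⟨b, hb⟩ := h2 _ (defect_cocycle hq hψ hd)
  obtain ⟨a, ha, hab⟩ := T.lam_surj (n := 1) (0 : Fin 2) hq (-b)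
  have hda : T.deg a = 1 := T.F_deg _ _ _ _ ha
  refine ⟨T.mul ψ a, by rw [T.deg_mul, hψ, hda, _root_.mul_one], ?_⟩
  let p01 : T.L 2 0 1 := T.P ![0, 1] ψ
  let p02 : T.L 2 0 2 := T.P ![0, 2] ψ
  let p12 : T.L 2 1 2 := T.P ![1, 2] ψ
  let a01 : T.L 2 0 0 := T.P ![0, 1] a
  let a02 : T.L 2 0 0 := T.P ![0, 2] a
  let a12 : T.L 2 1 1 := T.P ![1, 2] a
  have F01 : a01 ∈ T.F 2 0 q := T.F_P ![0, 1] hq ha
  have F02 : a02 ∈ T.F 2 0 q := T.F_P ![0, 2] hq ha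
  have F12 : a12 ∈ T.F 2 1 q := T.F_P ![1, 2] hq ha
  have l01 : T.lam q a01 = T.Mp q ![0, 1] (-b) := (T.lam_P ![0, 1] hq ha).trans (congrArg _ hab)
  have l02 : T.lam q a02 = T.Mp q ![0, 2] (-b) := (T.lam_P ![0, 2] hq ha).trans (congrArg _ hab)
  have l12 : T.lam q a12 = T.Mp q ![1, 2] (-b) := (T.lam_P ![1, 2] hq ha).trans (congrArg _ hab)
  have hp01 : T.deg p01 = 1 := (T.deg_P ![0, 1] ψ).trans hψ
  obtain ⟨c1, c2⟩ := conj_inv p01 hp01 hq F12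
  have e : defect (T.mul ψ a) =
      T.mul (T.mul (T.inv a02) (defect ψ)) (T.mul (T.mul (T.mul (T.inv p01) a12) p01) a01) := by
    show T.mul (T.inv (T.P ![0, 2] (T.mul ψ a))) (T.mul (T.P ![1, 2] (T.mul ψ a)) (T.P ![0, 1] (T.mul ψ a))) = _
    rw [T.P_mul, T.P_mul, T.P_mul]
    show T.mul (T.inv (T.mul p02 a02)) (T.mul (T.mul p12 a12) (T.mul p01 a01)) =
      T.mul (T.mul (T.inv a02) (T.mul (T.inv p02) (T.mul p12 p01))) (T.mul (T.mul (T.mul (T.inv p01) a12) p01) a01)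
    rw [inv_mul_rev]
    simp only [T.mul_assoc, mul_inv_cancel_left]
  have G1 : T.inv a02 ∈ T.F 2 0 q := T.F_inv hq F02
  have G2 := T.F_mul hq G1 hd
  have G3 := T.F_mul hq c1 F01
  rw [e]
  refine T.lam_ker hq (T.F_mul hq G2 G3) ?_
  rw [T.lam_mul hq G2 G3, T.lam_mul hq G1 hd, T.lam_mul hq c1 F01, lam_inv hq F02, c2, l01, l02, l12,
    Mp_neg, Mp_neg, Mp_neg, neg_neg, ← neg_add, ← hb]
  exact add_neg_cancel _

/-- **Gluing.** -/
theorem glue (k : ℕ) (h2 : ∀ q, 1 ≤ q → q ≤ k → T.H2 q) (hF : ∀ x ∈ T.F 2 0 (k + 1), x = T.one)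
    (hex : ∃ ψ : T.L 1 0 1, T.deg ψ = 1) :
    ∃ ψ : T.L 1 0 1, T.deg ψ = 1 ∧
      T.mul (show T.L 2 1 2 from T.P ![1, 2] ψ) (show T.L 2 0 1 from T.P ![0, 1] ψ) =
        (show T.L 2 0 2 from T.P ![0, 2] ψ) := by
  have key : ∀ r, r ≤ k → ∃ ψ : T.L 1 0 1, T.deg ψ = 1 ∧ defect ψ ∈ T.F 2 0 (r + 1) := by
    intro r
    induction r with
    | zero =>
      intro _
      obtain ⟨ψ, hψ⟩ := hex
      exact ⟨ψ, hψ, (T.F_one _ _ _).mpr (deg_defect hψ)⟩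
    | succ r ih =>
      intro hr
      obtain ⟨ψ, hψ, hd⟩ := ih (by omega)
      exact step (by omega) (h2 (r + 1) (by omega) hr) hψ hd
  obtain ⟨ψ, hψ, hd⟩ := key k le_rfl
  refine ⟨ψ, hψ, ?_⟩
  have h1 := hF _ hd
  have h3 := congrArg (T.mul (show T.L 2 0 2 from T.P ![0, 2] ψ)) h1
  rw [T.mul_one] at h3
  rw [← h3]
  unfold defect
  rw [mul_inv_cancel_left]

section Lift

variable (ψ : T.L 1 0 1)

/-- the failure of `g` to commute with the gluing -/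
def comm (g : T.L 0 0 0) : T.L 1 0 0 :=
  T.mul (T.inv ψ) (T.mul (show T.L 1 1 1 from T.P ![1] g) (T.mul ψ (T.inv (show T.L 1 0 0 from T.P ![0] g))))

variable {ψ}

theorem deg_comm (hψ : T.deg ψ = 1) (g : T.L 0 0 0) : T.deg (comm ψ g) = 1 := by
  unfold comm
  have h1 : T.deg (show T.L 1 1 1 from T.P ![1] g) = T.deg g := T.deg_P _ g
  have h0 : T.deg (show T.L 1 0 0 from T.P ![0] g) = T.deg g := T.deg_P _ g
  rw [T.deg_mul, T.deg_mul, T.deg_mul, deg_inv, deg_inv, hψ, h1, h0, inv_one, _root_.one_mul, _root_.one_mul,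
    _root_.mul_inv_cancel]

/-- the failure is a `1`-cocycle in the graded piece -/
theorem comm_cocycle {q : ℕ} (hq : 1 ≤ q) (hψ : T.deg ψ = 1)
    (hc : T.mul (show T.L 2 1 2 from T.P ![1, 2] ψ) (show T.L 2 0 1 from T.P ![0, 1] ψ) =
        (show T.L 2 0 2 from T.P ![0, 2] ψ)) {g : T.L 0 0 0} (hd : comm ψ g ∈ T.F 1 0 q) :
    T.Mp q ![1, 2] (T.lam q (comm ψ g)) + T.Mp q ![0, 1] (T.lam q (comm ψ g)) =
      T.Mp q (n := 2) ![0, 2] (T.lam q (comm ψ g)) := by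
  let p01 : T.L 2 0 1 := T.P ![0, 1] ψ
  let p02 : T.L 2 0 2 := T.P ![0, 2] ψ
  let p12 : T.L 2 1 2 := T.P ![1, 2] ψ
  let g0 : T.L 2 0 0 := T.P ![0] g
  let g1 : T.L 2 1 1 := T.P ![1] g
  let g2 : T.L 2 2 2 := T.P ![2] g
  have hg00 : (show T.L 2 0 0 from T.P ![0, 1] (show T.L 1 0 0 from T.P ![0] g)) = g0 :=
    eq_of_heq (P_P (T := T) (l := 0) ![0, 1] ![0] ![0] (fun r => by fin_cases r; rfl) g)
  have hg01 : (show T.L 2 1 1 from T.P ![0, 1] (show T.L 1 1 1 from T.P ![1] g)) = g1 :=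
    eq_of_heq (P_P (T := T) (l := 0) ![0, 1] ![1] ![1] (fun r => by fin_cases r; rfl) g)
  have hg10 : (show T.L 2 1 1 from T.P ![1, 2] (show T.L 1 0 0 from T.P ![0] g)) = g1 :=
    eq_of_heq (P_P (T := T) (l := 0) ![1, 2] ![0] ![1] (fun r => by fin_cases r; rfl) g)
  have hg11 : (show T.L 2 2 2 from T.P ![1, 2] (show T.L 1 1 1 from T.P ![1] g)) = g2 :=
    eq_of_heq (P_P (T := T) (l := 0) ![1, 2] ![1] ![2] (fun r => by fin_cases r; rfl) g)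
  have hg20 : (show T.L 2 0 0 from T.P ![0, 2] (show T.L 1 0 0 from T.P ![0] g)) = g0 :=
    eq_of_heq (P_P (T := T) (l := 0) ![0, 2] ![0] ![0] (fun r => by fin_cases r; rfl) g)
  have hg21 : (show T.L 2 2 2 from T.P ![0, 2] (show T.L 1 1 1 from T.P ![1] g)) = g2 :=
    eq_of_heq (P_P (T := T) (l := 0) ![0, 2] ![1] ![2] (fun r => by fin_cases r; rfl) g)
  have e01 : (show T.L 2 0 0 from T.P ![0, 1] (comm ψ g)) = T.mul (T.inv p01) (T.mul g1 (T.mul p01 (T.inv g0))) := by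
    show T.P ![0, 1] (T.mul (T.inv ψ) (T.mul (show T.L 1 1 1 from T.P ![1] g)
      (T.mul ψ (T.inv (show T.L 1 0 0 from T.P ![0] g))))) = _
    rw [T.P_mul, T.P_mul, T.P_mul, P_inv, P_inv]
    exact congrArg₂ T.mul rfl (congrArg₂ T.mul hg01 (congrArg₂ T.mul rfl (congrArg T.inv hg00)))
  have e12 : (show T.L 2 1 1 from T.P ![1, 2] (comm ψ g)) = T.mul (T.inv p12) (T.mul g2 (T.mul p12 (T.inv g1))) := by
    show T.P ![1, 2] (T.mul (T.inv ψ) (T.mul (show T.L 1 1 1 from T.P ![1] g)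
      (T.mul ψ (T.inv (show T.L 1 0 0 from T.P ![0] g))))) = _
    rw [T.P_mul, T.P_mul, T.P_mul, P_inv, P_inv]
    exact congrArg₂ T.mul rfl (congrArg₂ T.mul hg11 (congrArg₂ T.mul rfl (congrArg T.inv hg10)))
  have e02 : (show T.L 2 0 0 from T.P ![0, 2] (comm ψ g)) = T.mul (T.inv p02) (T.mul g2 (T.mul p02 (T.inv g0))) := by
    show T.P ![0, 2] (T.mul (T.inv ψ) (T.mul (show T.L 1 1 1 from T.P ![1] g)
      (T.mul ψ (T.inv (show T.L 1 0 0 from T.P ![0] g))))) = _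
    rw [T.P_mul, T.P_mul, T.P_mul, P_inv, P_inv]
    exact congrArg₂ T.mul rfl (congrArg₂ T.mul hg21 (congrArg₂ T.mul rfl (congrArg T.inv hg20)))
  generalize hc01 : (show T.L 2 0 0 from T.P ![0, 1] (comm ψ g)) = c01 at e01
  generalize hc12 : (show T.L 2 1 1 from T.P ![1, 2] (comm ψ g)) = c12 at e12
  generalize hc02 : (show T.L 2 0 0 from T.P ![0, 2] (comm ψ g)) = c02 at e02
  have hc' : p02 = T.mul p12 p01 := hc.symm
  have key : c02 = T.mul (T.mul (T.mul (T.inv p01) c12) p01) c01 := by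
    rw [e01, e12, e02, hc', inv_mul_rev]
    simp only [T.mul_assoc, mul_inv_cancel_left, inv_mul_cancel_left]
  have F01 : c01 ∈ T.F 2 0 q := hc01 ▸ T.F_P ![0, 1] hq hd
  have F12 : c12 ∈ T.F 2 1 q := hc12 ▸ T.F_P ![1, 2] hq hd
  have l01 : T.lam q c01 = T.Mp q ![0, 1] (T.lam q (comm ψ g)) := hc01 ▸ T.lam_P ![0, 1] hq hd
  have l02 : T.lam q c02 = T.Mp q ![0, 2] (T.lam q (comm ψ g)) := hc02 ▸ T.lam_P ![0, 2] hq hd
  have l12 : T.lam q c12 = T.Mp q ![1, 2] (T.lam q (comm ψ g)) := hc12 ▸ T.lam_P ![1, 2] hq hd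
  have hp01 : T.deg p01 = 1 := (T.deg_P ![0, 1] ψ).trans hψ
  obtain ⟨h1, h2⟩ := conj_inv p01 hp01 hq F12
  have h3 := congrArg (T.lam q) key
  rw [T.lam_mul hq h1 F01, h2] at h3
  rw [← l01, ← l12, ← l02, h3]

/-- one step of the lifting of an automorphism -/
theorem lift_step {q : ℕ} (hq : 1 ≤ q) (h1 : T.H1 q) (hψ : T.deg ψ = 1)
    (hc : T.mul (show T.L 2 1 2 from T.P ![1, 2] ψ) (show T.L 2 0 1 from T.P ![0, 1] ψ) =
        (show T.L 2 0 2 from T.P ![0, 2] ψ)) {g : T.L 0 0 0} (hd : comm ψ g ∈ T.F 1 0 q) :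
    ∃ g' : T.L 0 0 0, T.deg g' = T.deg g ∧ (∃ a ∈ T.F 0 0 q, g' = T.mul a g) ∧ comm ψ g' ∈ T.F 1 0 (q + 1) := by
  obtain ⟨b, hb⟩ := h1 _ (comm_cocycle hq hψ hc hd)
  obtain ⟨a, ha, hab⟩ := T.lam_surj (n := 0) (0 : Fin 1) hq (-b)
  have hda : T.deg a = 1 := T.F_deg _ _ _ _ ha
  refine ⟨T.mul a g, by rw [T.deg_mul, hda, _root_.one_mul], ⟨a, ha, rfl⟩, ?_⟩
  let g0 : T.L 1 0 0 := T.P ![0] g
  let g1 : T.L 1 1 1 := T.P ![1] g
  let a0 : T.L 1 0 0 := T.P ![0] a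
  let a1 : T.L 1 1 1 := T.P ![1] a
  have F0 : a0 ∈ T.F 1 0 q := T.F_P ![0] hq ha
  have F1 : a1 ∈ T.F 1 1 q := T.F_P ![1] hq ha
  have l0 : T.lam q a0 = T.Mp q ![0] (-b) := (T.lam_P ![0] hq ha).trans (congrArg _ hab)
  have l1 : T.lam q a1 = T.Mp q ![1] (-b) := (T.lam_P ![1] hq ha).trans (congrArg _ hab)
  obtain ⟨c1, c2⟩ := conj_inv ψ hψ hq F1
  have e : comm ψ (T.mul a g) = T.mul (T.mul (T.mul (T.mul (T.inv ψ) a1) ψ) (comm ψ g)) (T.inv a0) := by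
    show T.mul (T.inv ψ) (T.mul (T.P ![1] (T.mul a g)) (T.mul ψ (T.inv (T.P ![0] (T.mul a g))))) = _
    rw [T.P_mul, T.P_mul]
    show T.mul (T.inv ψ) (T.mul (T.mul a1 g1) (T.mul ψ (T.inv (T.mul a0 g0)))) =
      T.mul (T.mul (T.mul (T.mul (T.inv ψ) a1) ψ) (T.mul (T.inv ψ) (T.mul g1 (T.mul ψ (T.inv g0))))) (T.inv a0)
    rw [inv_mul_rev]
    simp only [T.mul_assoc, mul_inv_cancel_left]
  have G1 : T.inv a0 ∈ T.F 1 0 q := T.F_inv hq F0
  have G2 := T.F_mul hq c1 hd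
  rw [e]
  refine T.lam_ker hq (T.F_mul hq G2 G1) ?_
  rw [T.lam_mul hq G2 G1, T.lam_mul hq c1 hd, lam_inv hq F0, c2, l0, l1, Mp_neg, Mp_neg, neg_neg, hb]
  abel

/-- **Equivariant lifts.** -/
theorem lift (k : ℕ) (h1 : ∀ q, 1 ≤ q → q ≤ k → T.H1 q) (hF : ∀ x ∈ T.F 1 0 (k + 1), x = T.one)
    (hψ : T.deg ψ = 1)
    (hc : T.mul (show T.L 2 1 2 from T.P ![1, 2] ψ) (show T.L 2 0 1 from T.P ![0, 1] ψ) =
        (show T.L 2 0 2 from T.P ![0, 2] ψ)) (g : T.L 0 0 0) :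
    ∃ g' : T.L 0 0 0, T.deg g' = T.deg g ∧
      T.mul (show T.L 1 1 1 from T.P ![1] g') ψ = T.mul ψ (show T.L 1 0 0 from T.P ![0] g') := by
  have key : ∀ r, r ≤ k → ∃ g' : T.L 0 0 0, T.deg g' = T.deg g ∧ comm ψ g' ∈ T.F 1 0 (r + 1) := by
    intro r
    induction r with
    | zero => exact fun _ => ⟨g, rfl, (T.F_one _ _ _).mpr (deg_comm hψ g)⟩
    | succ r ih =>
      intro hr
      obtain ⟨g', hg', hd⟩ := ih (by omega)
      obtain ⟨g'', hg'', -, hd'⟩ := lift_step (by omega) (h1 (r + 1) (by omega) hr) hψ hc hd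
      exact ⟨g'', hg''.trans hg', hd'⟩
  obtain ⟨g', hg', hd⟩ := key k le_rfl
  refine ⟨g', hg', ?_⟩
  have h3 := hF _ hd
  unfold comm at h3
  apply mul_left_cancel (T.inv ψ)
  apply mul_right_cancel (T.inv (show T.L 1 0 0 from T.P ![0] g'))
  rw [T.mul_assoc, T.mul_assoc, h3, inv_mul_cancel_left, T.mul_inv]

theorem F_le {n : ℕ} {i : Fin (n + 1)} {q r : ℕ} (hq : 1 ≤ q) (hqr : q ≤ r) {x : T.L n i i} (hx : x ∈ T.F n i r) :
    x ∈ T.F n i q := by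
  induction r, hqr using Nat.le_induction with
  | base => exact hx
  | succ r hr ih => exact ih (T.F_anti (by omega) hx)

/-- **Invariant elements of the graded pieces lift to automorphisms commuting with the gluing.** -/
theorem lift_inv (k : ℕ) (h1 : ∀ q, 1 ≤ q → q ≤ k → T.H1 q) (hF : ∀ x ∈ T.F 1 0 (k + 1), x = T.one)
    (hψ : T.deg ψ = 1)
    (hc : T.mul (show T.L 2 1 2 from T.P ![1, 2] ψ) (show T.L 2 0 1 from T.P ![0, 1] ψ) =
        (show T.L 2 0 2 from T.P ![0, 2] ψ)) {q : ℕ} (hq : 1 ≤ q) (hqk : q ≤ k) (b : T.M q 0)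
    (hb : T.Mp q ![1] b = T.Mp q (n := 1) ![0] b) :
    ∃ a ∈ T.F 0 0 q, T.lam q a = b ∧
      T.mul (show T.L 1 1 1 from T.P ![1] a) ψ = T.mul ψ (show T.L 1 0 0 from T.P ![0] a) := by
  have key : ∀ r, q ≤ r → r ≤ k → ∃ a ∈ T.F 0 0 q, T.lam q a = b ∧ comm ψ a ∈ T.F 1 0 (r + 1) := by
    intro r hr
    induction r, hr using Nat.le_induction with
    | base =>
      intro _
      obtain ⟨a, ha, hab⟩ := T.lam_surj (n := 0) (0 : Fin 1) hq b
      refine ⟨a, ha, hab, ?_⟩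
      let a0 : T.L 1 0 0 := T.P ![0] a
      let a1 : T.L 1 1 1 := T.P ![1] a
      have F0 : a0 ∈ T.F 1 0 q := T.F_P ![0] hq ha
      have F1 : a1 ∈ T.F 1 1 q := T.F_P ![1] hq ha
      have l0 : T.lam q a0 = T.Mp q ![0] b := (T.lam_P ![0] hq ha).trans (congrArg _ hab)
      have l1 : T.lam q a1 = T.Mp q ![1] b := (T.lam_P ![1] hq ha).trans (congrArg _ hab)
      obtain ⟨c1, c2⟩ := conj_inv ψ hψ hq F1
      have e : comm ψ a = T.mul (T.mul (T.mul (T.inv ψ) a1) ψ) (T.inv a0) := by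
        unfold comm
        simp only [T.mul_assoc]
        rfl
      have G1 : T.inv a0 ∈ T.F 1 0 q := T.F_inv hq F0
      rw [e]
      refine T.lam_ker hq (T.F_mul hq c1 G1) ?_
      rw [T.lam_mul hq c1 G1, lam_inv hq F0, c2, l0, l1, hb]
      exact add_neg_cancel _
    | succ r hr ih =>
      intro hr'
      obtain ⟨a, ha, hab, hd⟩ := ih (by omega)
      obtain ⟨a', -, ⟨c, hc1, rfl⟩, hd'⟩ := lift_step (by omega) (h1 (r + 1) (by omega) hr') hψ hc hd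
      have hc2 : c ∈ T.F 0 0 (q + 1) := F_le (by omega) (by omega) hc1
      have hc3 : c ∈ T.F 0 0 q := T.F_anti hq hc2
      refine ⟨T.mul c a, T.F_mul hq hc3 ha, ?_, hd'⟩
      rw [T.lam_mul hq hc3 ha, T.lam_zero hq hc2, _root_.zero_add, hab]
  obtain ⟨a, ha, hab, hd⟩ := key k hqk le_rfl
  refine ⟨a, ha, hab, ?_⟩
  have h3 := hF _ hd
  unfold comm at h3
  apply mul_left_cancel (T.inv ψ)
  apply mul_right_cancel (T.inv (show T.L 1 0 0 from T.P ![0] a))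
  rw [T.mul_assoc, T.mul_assoc, h3, inv_mul_cancel_left, T.mul_inv]

end Lift

end TS

end Groth.Agent.ResProp.EF.K363
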