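import Groth.Agent.ResProp.EF.K363.LevDesc
import Groth.Agent.ResProp.EF.K303.ConsDef

/-!
# The descent datum of `glue_all` is `Glued` (helper303's seam)

`exists_glued` : from the cocycle vanishing (`H1`, `H2` of `ts o.X (arrB o.lev hA B)`) one `ψ`, the descent datum
`s = descA hA ψ hc` with `Glued o s`, and the lifts of all points of `H` commuting with `ψ_B`.
-/

set_option autoImplicit false
set_option linter.dupNamespace false

namespace Groth.Agent.ResProp.EF.K363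

open CategoryTheory Opposite TensorProduct Groth.Agent.ResProp.EF.K980 Groth.Agent.ResProp.EF.K959

open K784.BC K784.PM K741.RP EF56 Grp Arch

universe u

theorem ppull_congr {R : Type u} [CommRing R] (P : PGpd.{u} R) {R' R'' : Type u} [CommRing R'] [CommRing R'']
    {f g : R' →+* R''} (h : f = g) {x y : R →+* R'} {x' y' : R →+* R''} (hx : f.comp x = x') (hy : f.comp y = y')
    (hx' : g.comp x = x') (hy' : g.comp y = y') (a : P.Hom x y) : P.pull f hx hy a = P.pull g hx' hy' a := by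
  subst h
  rfl

section

variable {k : Type u} [CommRing k] {A : NFᵒᵖ ⥤ CommRingCat.{u}} [GRF k A]

theorem lidR_eq (n : ℕ) : K303.lidR k A n = lidA k A n := rfl

theorem arA_eq {H : K104.GFun k} {P : PGpd.{u} (A.obj (op ⟨0⟩))} (L : Lev k A H P) (n : ℕ) (i j : Fin (n + 1)) :
    K303.arA L n i j = P.pull (lidA k A n) (lidA_x n i) (lidA_x n j) (L.ar k n i j 1) :=
  ppull_congr P (lidR_eq n) _ _ _ _ _

variable {x : PrimeSpectrum (A.obj (op ⟨0⟩))} {c : CoverDatum k A x} (o : ALGOut c) (hA : GR A)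

/-- the descent datum of a lift is glued -/
theorem glued_descA (ψ : BC ((lvB k hA k).x 1 0) o.X.K ≃ₗ[(lvB k hA k).Rn 1] BC ((lvB k hA k).x 1 1) o.X.K)
    (hψ : ψ ∈ o.X.L (o.lev.ar k 1 0 1 1)) (hc : IsCocy (lvB k hA k) ψ) : K303.Glued o (descA hA ψ hc) := by
  show sgA hA ψ ∈ o.X.L (K303.arA o.lev 1 0 1)
  rw [arA_eq]
  exact o.X.L_pull (lidA k A 1) (lidA_x 1 0) (lidA_x 1 1) _ (flat_xp hA k 1 0) (flat_xp hA k 1 1) (flat_pt hA 1 0)
    (flat_pt hA 1 1) ψ hψ

/-- **The glued descent datum and the equivariant lifts.** -/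
theorem exists_glued
    (h1 : ∀ (B : Type u) [CommRing B] [Algebra k B] [Module.Flat k B] (q : ℕ), 1 ≤ q → q ≤ o.X.k →
      (ts o.X (arrB o.lev hA B)).H1 q)
    (h2 : ∀ (q : ℕ), 1 ≤ q → q ≤ o.X.k → (ts o.X (arrB o.lev hA k)).H2 q) :
    ∃ (ψ : BC ((lvB k hA k).x 1 0) o.X.K ≃ₗ[(lvB k hA k).Rn 1] BC ((lvB k hA k).x 1 1) o.X.K)
      (hc : IsCocy (lvB k hA k) ψ), ψ ∈ o.X.L (o.lev.ar k 1 0 1 1) ∧ K303.Glued o (descA hA ψ hc) ∧
      ∀ (B : Type u) [CommRing B] [Algebra k B] [Module.Flat k B] (h : (K208.pts c.H).pt B),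
        ∃ g ∈ o.X.L (o.lev.ar B 0 0 0 h), Commutes (lvB k hA B) (psiB hA o.X.K ψ B) g := by
  obtain ⟨ψ, hψ, hc⟩ := glueP o.X (arrB o.lev hA k) h2
  refine ⟨ψ, hc, hψ, glued_descA o hA ψ hψ hc, fun B _ _ _ => ?_⟩
  have hB : psiB hA o.X.K ψ B ∈ o.X.L ((arrB o.lev hA B).arr 1 0 1 1) := by
    have := pull_arr (homB hA (Algebra.ofId k B)) (arrB o.lev hA k) (arrB o.lev hA B)
      ((K208.pts c.H).map (Algebra.ofId k B)) (fun n i j h => pull_arrB o.lev hA (Algebra.ofId k B) n i j h) o.X hψ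
    rwa [map_one] at this
  exact fun h => liftP o.X (arrB o.lev hA B) (h1 B) hB (hc.pull (homB hA (Algebra.ofId k B))) h

end

end Groth.Agent.ResProp.EF.K363
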