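import Groth.Agent.ResProp.EF.K363.Glued
import Groth.Agent.ResProp.EF.K172.LevInst

/-!
# The glued descent datum of an `ALGOut`, without hypotheses

`glued_out` : `exists_glued` with helper172's `H1_H2`.
-/

set_option autoImplicit false
set_option linter.dupNamespace false

namespace Groth.Agent.ResProp.EF.K363

open CategoryTheory Opposite TensorProduct Groth.Agent.ResProp.EF.K980 Groth.Agent.ResProp.EF.K959

open K784.BC K784.PM K741.RP EF56 Grp Arch

universe u

variable {k : Type u} [CommRing k] {A : NFᵒᵖ ⥤ CommRingCat.{u}} [GRF k A]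
  {x : PrimeSpectrum (A.obj (op ⟨0⟩))} {c : CoverDatum k A x} (o : ALGOut c) (hA : GR A)

theorem H1_H2_arrB (B : Type u) [CommRing B] [Algebra k B] [Module.Flat k B] {q : ℕ} (hq : 1 ≤ q) :
    (ts o.X (arrB o.lev hA B)).H1 q ∧ (ts o.X (arrB o.lev hA B)).H2 q :=
  K172.H1_H2 o B hq

/-- **Gluing for the output of the producer**: a cocycle `ψ` over `k ⊗ A⟨1⟩` lifting the arrow `0 → 1`, its descent datum
`s`, and for every flat `B` and every point `h` of `H` over `B` a lift of `h` commuting with `ψ_B`. -/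
theorem glued_out :
    ∃ (ψ : BC ((lvB k hA k).x 1 0) o.X.K ≃ₗ[(lvB k hA k).Rn 1] BC ((lvB k hA k).x 1 1) o.X.K)
      (hc : IsCocy (lvB k hA k) ψ), ψ ∈ o.X.L (o.lev.ar k 1 0 1 1) ∧ K303.Glued o (descA hA ψ hc) ∧
      ∀ (B : Type u) [CommRing B] [Algebra k B] [Module.Flat k B] (h : (K208.pts c.H).pt B),
        ∃ g ∈ o.X.L (o.lev.ar B 0 0 0 h), Commutes (lvB k hA B) (psiB hA o.X.K ψ B) g :=
  exists_glued o hA (fun B _ _ _ _ hq _ => (H1_H2_arrB o hA B hq).1) fun _ hq _ => (H1_H2_arrB o hA k hq).2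

end Groth.Agent.ResProp.EF.K363
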