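import Groth.Agent.ResProp.EF.K477.TensNF
import Groth.Agent.ResProp.EF.K363.AD1Out

/-!
# The levels of a groupoid ring

`flat_pt` : all vertices of a flat groupoid ring are flat.  `lvOf incl` : the levels `Rn n = E⟨n⟩` over `R = A⟨0⟩` for a
morphism `incl : A ⟶ E` of groupoid rings, flat on `⟨0⟩`.
-/

set_option autoImplicit false
set_option linter.dupNamespace false

namespace Groth.Agent.ResProp.EF.K363

open CategoryTheory Opposite K784.BC K784.PM K741.RP EF56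

universe u v

variable {A E : NFᵒᵖ ⥤ CommRingCat.{u}}

/-- the swap of the two factors -/
def swp : (⟨1⟩ : NF) ⟶ ⟨1⟩ := (![1, 0] : Fin 2 → Fin 2)

theorem flat_lst0 (h : GR E) : (rg E (lst ⟨0⟩)).Flat := by
  have h1 : lst ⟨0⟩ = swp ≫ pr ⟨0⟩ := by
    funext i
    fin_cases i
    rfl
  have h2 : swp ≫ swp = 𝟙 _ := by
    funext i
    fin_cases i <;> rfl
  have h3 : (rg E swp).comp (rg E swp) = RingHom.id _ := by
    rw [← rg_comp, h2, rg_id]
  have h4 : Function.Bijective (rg E swp) := by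
    refine ⟨fun a b hab => ?_, fun b => ⟨rg E swp b, RingHom.congr_fun h3 b⟩⟩
    have := congrArg (rg E swp) hab
    rwa [← RingHom.comp_apply, ← RingHom.comp_apply, h3] at this
  rw [h1, rg_comp]
  exact RingHom.Flat.comp (h.ff ⟨0⟩).flat (RingHom.Flat.of_bijective h4)

theorem flat_pt (h : GR E) (n : ℕ) (i : Fin (n + 1)) : (rg E (pt ⟨n⟩ i)).Flat := by
  induction n with
  | zero =>
    have : pt ⟨0⟩ i = 𝟙 (⟨0⟩ : NF) := by
      funext j
      exact Subsingleton.elim (α := Fin 1) _ _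
    rw [this, rg_id]
    exact RingHom.Flat.id _
  | succ n ih =>
    refine Fin.lastCases ?_ (fun j => ?_) i
    · have h1 : pt ⟨n + 1⟩ (Fin.last (n + 1)) = wmap (pt ⟨n⟩ 0) ≫ lst ⟨0⟩ := by
        rw [wmap_lst]
        rfl
      rw [h1, rg_comp]
      refine RingHom.Flat.comp (flat_lst0 h) ?_
      exact (h.po (pt ⟨n⟩ 0)).flat (ih 0)
    · have h1 : pt ⟨n + 1⟩ j.castSucc = pr ⟨n⟩ ≫ pt ⟨n⟩ j := rfl
      rw [h1, rg_comp]
      exact RingHom.Flat.comp (ih j) (h.ff ⟨n⟩).flat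

/-- the levels of a groupoid ring `E` over `R = A⟨0⟩` -/
def lvOf (incl : A ⟶ E) (h0 : (incl.app (op ⟨0⟩)).hom.Flat) (hE : GR E) : LvRing.{u} (A.obj (op ⟨0⟩)) where
  Rn n := E.obj (op ⟨n⟩)
  x n i := (rg E (pt ⟨n⟩ i)).comp (incl.app (op ⟨0⟩)).hom
  flat n i := RingHom.Flat.comp h0 (flat_pt hE n i)
  r {m n} a := rg E (show (⟨n⟩ : NF) ⟶ ⟨m⟩ from a)
  r_x {m n} a i := by
    rw [← RingHom.comp_assoc, ← rg_comp]
    rfl
  r_r {l m n} b a := by
    rw [← rg_comp]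
    rfl

end Groth.Agent.ResProp.EF.K363
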